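import Cfsg.Agent.FI.UKn
import Cfsg.Agent.Geom.Classify

/-! Fischer's theorem, small coincidences (helper17): the transvections of `O₆⁻(2)` and of `U₄(2)` are reflection
classes of `O₅(3)` (`o3k_of_o2k`, `o3k_of_uk4`, `qk_of_uk4`), by explicit tables. -/

set_option autoImplicit false

namespace Cfsg.Agent.FI

open Cfsg.Agent.Fischer Cfsg.Agent.Geom Subgroup QuadraticMap

variable {G : Type*} [Group G] {D S : Set G}
variable {F : Type*} [Field F] [Fintype F] [hF : Fact (Fintype.card F = 2 ^ 2)]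

/-- The form `ε Σ xᵢ²` on `F₃⁵`. -/
def sq5 (ε : ZMod 3) : QuadraticForm (ZMod 3) (Fin 5 → ZMod 3) := ε • ∑ i, QuadraticMap.proj i i

/-- Dot product of coordinates. -/
def dot5 (a b c d e a' b' c' d' e' : ZMod 3) : ZMod 3 := a * a' + b * b' + c * c' + d * d' + e * e'

/-- Base three code. -/
def enc5 (a b c d e : ZMod 3) : ℕ := a.val + 3 * (b.val + 3 * (c.val + 3 * (d.val + 3 * e.val)))

theorem sq5_apply (ε : ZMod 3) (v : Fin 5 → ZMod 3) :
    sq5 ε v = ε * dot5 (v 0) (v 1) (v 2) (v 3) (v 4) (v 0) (v 1) (v 2) (v 3) (v 4) := by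
  simp [sq5, dot5, Fin.sum_univ_five, mul_add]

theorem polar_sq5 (ε : ZMod 3) (u v : Fin 5 → ZMod 3) : polar (sq5 ε) u v =
    2 * ε * dot5 (u 0) (u 1) (u 2) (u 3) (u 4) (v 0) (v 1) (v 2) (v 3) (v 4) := by
  simp only [polar, sq5_apply, dot5, Pi.add_apply]; ring

theorem sq5_nondeg {ε : ZMod 3} (hε : ε ≠ 0) : (Formed.ofQuad (sq5 ε)).Nondeg := fun v hv => by
  funext i
  have := hv (Pi.single i 1)
  have h2 : (2 : ZMod 3) ≠ 0 := by decide
  rw [ofQuad_B_apply, polar_sq5] at this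
  fin_cases i <;> simpa [dot5, hε, h2] using this

theorem vec5_ext {u v : Fin 5 → ZMod 3} (h : u 0 = v 0 ∧ u 1 = v 1 ∧ u 2 = v 2 ∧ u 3 = v 3 ∧ u 4 = v 4) :
    u = v := by
  funext i; fin_cases i
  exacts [h.1, h.2.1, h.2.2.1, h.2.2.2.1, h.2.2.2.2]

/-- A statement about all pairs of vectors of norm one, in coordinates. -/
abbrev All2 (ε : ZMod 3) (P : ZMod 3 → ZMod 3 → ZMod 3 → ZMod 3 → ZMod 3 → ZMod 3 → ZMod 3 → ZMod 3 → ZMod 3 →
    ZMod 3 → Prop) : Prop :=
  ∀ a b c d e, ε * dot5 a b c d e a b c d e = 1 → ∀ a' b' c' d' e', ε * dot5 a' b' c' d' e' a' b' c' d' e' = 1 →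
    P a b c d e a' b' c' d' e'

/-! ### `O₆⁻(2)` -/

/-- The table for `O₆⁻(2)`. -/
def tabO (a b c d e : ZMod 3) : ℕ := Nat.land (Nat.shiftRight
  0xee40a5c00000066c03c2c00000000000000000053780287c0000018bc0fca0000000000000000001c00000000000110000000000004c00210008f1cc02bf02f60000001fa00e0d0000000000000000001cbf00b190000007290393800000000000000000050000000000004c00000000000110008c0021cf1000000000000016000000000000500026000936d00000000000000500000000000016000900026d36000032000c22800000c00032822012400412000000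
  (6 * enc5 a b c d e)) 63

/-- Decoding of six bits, minus type. -/
def dM (u : ℕ) : (Fin 2 ⊕ Fin 2) ⊕ Fin 2 → ZMod 2 :=
  Sum.elim (Sum.elim ![bF _ u 0, bF _ u 1] ![bF _ u 2, bF _ u 3]) ![bF _ u 4, bF _ u 5]

/-- The minus form on codes. -/
def qM (u : ℕ) : ℕ := par (Nat.xor (Nat.land (Nat.land u (Nat.shiftRight u 2)) 3)
  (Nat.shiftLeft (Nat.lor (Nat.land (Nat.shiftRight u 4) 1) (Nat.land (Nat.shiftRight u 5) 1)) 2))

/-- Its polar form. -/
def bM (u v : ℕ) : ℕ := (qM (Nat.xor u v) + qM u + qM v) % 2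

theorem bF_two_xor (x y i : ℕ) : bF (ZMod 2) (Nat.xor x y) i = bF _ x i + bF _ y i := by
  have : (Nat.xor x y).testBit i = xor (x.testBit i) (y.testBit i) := Nat.testBit_xor x y i
  simp only [bF, this]
  cases x.testBit i <;> cases y.testBit i <;> decide

theorem dM_xor (u v : ℕ) : dM (Nat.xor u v) = dM u + dM v := by
  funext i
  rcases i with (i | i) | i <;> fin_cases i <;> exact bF_two_xor _ _ _

theorem qM_aux : ∀ u < 64, bF (ZMod 2) u 0 * bF _ u 2 + bF _ u 1 * bF _ u 3 +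
    (bF _ u 4 ^ 2 + 1 * bF _ u 4 * bF _ u 5 + 1 * bF _ u 5 ^ 2) = (qM u : ZMod 2) := by decide +kernel

theorem quadMinus_dM {u : ℕ} (hu : u < 64) : quadMinus (ZMod 2) 2 1 1 (dM u) = qM u := by
  rw [quadMinus_apply, Fin.sum_univ_two]; exact qM_aux u hu

theorem xor_lt64 {u v : ℕ} (hu : u < 64) (hv : v < 64) : Nat.xor u v < 64 :=
  Nat.xor_lt_two_pow (n := 6) hu hv

theorem polar_dM {u v : ℕ} (hu : u < 64) (hv : v < 64) :
    polar (quadMinus (ZMod 2) 2 1 1) (dM u) (dM v) = bM u v := by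
  rw [polar, ← dM_xor, quadMinus_dM hu, quadMinus_dM hv, quadMinus_dM (xor_lt64 hu hv), bM, ZMod.natCast_mod]
  simp only [Nat.cast_add, CharTwo.sub_eq_add]

theorem exists_dM (x : (Fin 2 ⊕ Fin 2) ⊕ Fin 2 → ZMod 2) : ∃ u < 64, dM u = x := by
  revert x; decide +kernel

theorem dM_inj {u v : ℕ} (hu : u < 64) (hv : v < 64) (h : dM u = dM v) : u = v := by
  have key : ∀ w < 64, dM w = 0 → w = 0 := by decide +kernel
  exact Nat.eq_of_xor_eq_zero (key _ (xor_lt64 hu hv) ((dM_xor u v).trans (by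
    rw [h]; funext i; exact CharTwo.add_self_eq_zero _)))

theorem tabO_lt (a b c d e : ZMod 3) : tabO a b c d e < 64 := Nat.lt_succ_of_le Nat.and_le_right

theorem tabO_q : ∀ a b c d e, 2 * dot5 a b c d e a b c d e = 1 → qM (tabO a b c d e) = 1 ∧
    tabO (-a) (-b) (-c) (-d) (-e) = tabO a b c d e := by decide +kernel

theorem tabO_surj : ∀ u < 64, qM u % 2 = 1 → ∃ a b c d e, 2 * dot5 a b c d e a b c d e = 1 ∧
    tabO a b c d e = u := by decide +kernel

theorem tabO_law : All2 2 fun a b c d e a' b' c' d' e' =>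
    tabO (a' - 2 * 2 * dot5 a b c d e a' b' c' d' e' * a) (b' - 2 * 2 * dot5 a b c d e a' b' c' d' e' * b)
      (c' - 2 * 2 * dot5 a b c d e a' b' c' d' e' * c) (d' - 2 * 2 * dot5 a b c d e a' b' c' d' e' * d)
      (e' - 2 * 2 * dot5 a b c d e a' b' c' d' e' * e) =
      (if bM (tabO a' b' c' d' e') (tabO a b c d e) = 0 then tabO a' b' c' d' e'
        else Nat.xor (tabO a' b' c' d' e') (tabO a b c d e)) ∧
    (tabO a b c d e = tabO a' b' c' d' e' → (a = a' ∧ b = b' ∧ c = c' ∧ d = d' ∧ e = e') ∨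
      (a = -a' ∧ b = -b' ∧ c = -c' ∧ d = -d' ∧ e = -e')) := by decide +kernel

/-- Decoding of six bits, plus type. -/
def dP (u : ℕ) : Fin 3 ⊕ Fin 3 → ZMod 2 :=
  Sum.elim ![bF _ u 0, bF _ u 1, bF _ u 2] ![bF _ u 3, bF _ u 4, bF _ u 5]

/-- The plus form on codes. -/
def qP (u : ℕ) : ℕ := par (Nat.land (Nat.land u (Nat.shiftRight u 3)) 7)

/-- Its polar form. -/
def bP (u v : ℕ) : ℕ := (qP (Nat.xor u v) + qP u + qP v) % 2

theorem dP_xor (u v : ℕ) : dP (Nat.xor u v) = dP u + dP v := by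
  funext i
  rcases i with i | i <;> fin_cases i <;> exact bF_two_xor _ _ _

theorem qP_aux : ∀ u < 64, bF (ZMod 2) u 0 * bF _ u 3 + bF _ u 1 * bF _ u 4 + bF _ u 2 * bF _ u 5 =
    (qP u : ZMod 2) := by decide +kernel

theorem quadPlus_dP {u : ℕ} (hu : u < 64) : quadPlus (ZMod 2) 3 (dP u) = qP u := by
  rw [quadPlus_apply, Fin.sum_univ_three]; exact qP_aux u hu

theorem polar_dP {u v : ℕ} (hu : u < 64) (hv : v < 64) :
    polar (quadPlus (ZMod 2) 3) (dP u) (dP v) = bP u v := by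
  rw [polar, ← dP_xor, quadPlus_dP hu, quadPlus_dP hv, quadPlus_dP (xor_lt64 hu hv), bP, ZMod.natCast_mod]
  simp only [Nat.cast_add, CharTwo.sub_eq_add]

theorem exists_dP (x : Fin 3 ⊕ Fin 3 → ZMod 2) : ∃ u < 64, dP u = x := by
  revert x; decide +kernel

/-- The non-singular vectors not orthogonal to `a`, as a bit mask. -/
def rowP (a : ℕ) : ℕ := Nat.land (Nat.shiftRight
  0x141260064828009614486060488200962812606084280000284860068482009628489006482800002812906048820000144890608428009614129006848200823c18c024c08200143c42c042c02800140018c0420c8200820042c0240c28001400423024c082008200183042c02800823c4230420c8200143c1830240c280084185aa04284a000121800a024840a0012245aa02448a000842400a042480a00122400504284a00084245a5024840a00841800502448a00012185a5042480a0006305000600c0a0090300a00060ca000900c500006c00a00060c0a0060c0a000900c0af0600c0a00060c50f0060ca00006300af006c00a00903050f060c0a00090244290668888000624189000882200061842900044880090181890664422000618186066888800901842600088220090241860004488000624426066442200120c483044002200840c1230220088008430483022cc22001230123044cc8800843012c044002200123048c022008800120c12c022cc2200840c48c044cc880014280a5022440000822850504444aa0082140a5044880000141450502288aa00821450a02244000014140aa04444aa00142850a04488000082280aa02288aa00960000f000ccaa0000005af066cc0000003c00f06600aa00963c5af000000000003c5a0000ccaa00963c000066cc000096005a006600aa000000000000000000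
  (64 * a)) 0xffffffffffffffff

theorem rowP_spec : ∀ a < 64, ∀ p < 64, qP p % 2 = 1 → bP p a % 2 = 0 ∨ (rowP a).testBit p = true := by
  decide +kernel

set_option synthInstance.maxSize 100000 in
theorem rowP_claw : ∀ a < 64, qP a % 2 = 1 → ∀ b < 64, qP b % 2 = 1 ∧ bP a b % 2 = 0 ∧ a ≠ b →
    ∀ c < 64, qP c % 2 = 1 ∧ bP a c % 2 = 0 ∧ bP b c % 2 = 0 ∧ a ≠ c ∧ b ≠ c →
      rowP a &&& rowP b &&& rowP c = 0 := by
  decide +kernel

theorem plus_clawFree (a : ℕ) (ha : a < 64) (a1 : qP a % 2 = 1) (b : ℕ) (hb : b < 64)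
    (b1 : qP b % 2 = 1 ∧ bP a b % 2 = 0 ∧ a ≠ b) (c : ℕ) (hc : c < 64)
    (c1 : qP c % 2 = 1 ∧ bP a c % 2 = 0 ∧ bP b c % 2 = 0 ∧ a ≠ c ∧ b ≠ c) (p : ℕ) (hp : p < 64)
    (p1 : qP p % 2 = 1) : bP p a % 2 = 0 ∨ bP p b % 2 = 0 ∨ bP p c % 2 = 0 := by
  have h := congrArg (Nat.testBit · p) (rowP_claw a ha a1 b hb b1 c hc c1)
  simp only [Nat.testBit_and, Nat.zero_testBit] at h
  have h1 := rowP_spec a ha p hp p1
  have h2 := rowP_spec b hb p hp p1
  have h3 := rowP_spec c hc p hp p1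
  grind

theorem natCast_two_eq_one {n : ℕ} : (n : ZMod 2) = 1 ↔ n % 2 = 1 := by
  rw [← ZMod.natCast_mod]; rcases Nat.mod_two_eq_zero_or_one n with h | h <;> rw [h] <;> decide

theorem natCast_two_eq_zero {n : ℕ} : (n : ZMod 2) = 0 ↔ n % 2 = 0 := by
  rw [← ZMod.natCast_mod]; rcases Nat.mod_two_eq_zero_or_one n with h | h <;> rw [h] <;> decide

theorem SK.congr {V W : Type*} [AddCommGroup V] [Module (ZMod 2) V] [AddCommGroup W] [Module (ZMod 2) W]
    {Q : QuadraticForm (ZMod 2) V} {Q' : QuadraticForm (ZMod 2) W} {lam : V → G}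
    (k : SK Q.polarBilin {v | Q v = 1} lam S) {e : V ≃ₗ[ZMod 2] W}
    (he : (Formed.ofQuad Q).IsIso (Formed.ofQuad Q') e) :
    SK Q'.polarBilin {v | Q' v = 1} (fun w => lam (e.symm w)) S := by
  have h1 : ∀ v, Q (e.symm v) = Q' v := he.symm.2
  have h2 : ∀ u v, polar Q (e.symm u) (e.symm v) = polar Q' u v := he.symm.1
  refine ⟨k.wt, fun v => (polar_self' Q' v).trans (by rw [show (2 : ZMod 2) = 0 from rfl, zero_mul]),
    fun v hv => e.symm.map_eq_zero_iff.1 (k.nd _ fun u hu => ?_), fun h => ?_,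
    fun v hv => k.mem _ ((h1 v).trans hv), fun x hx => ?_,
    fun u hu v hv h => e.symm.injective (k.inj ((h1 u).trans hu) ((h1 v).trans hv) h),
    fun u hu v hv => (k.comm _ ((h1 u).trans hu) _ ((h1 v).trans hv)).trans (by simp [h2]),
    fun u hu v hv h => ?_⟩
  · have := hv (e u) ((he.2 u).trans hu)
    rwa [polarBilin_apply_apply, ← h2, e.symm_apply_apply] at this
  · simp at h
  · obtain ⟨v, hv, rfl⟩ := k.surj x hx
    exact ⟨e v, (he.2 v).trans hv, by simp⟩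
  · have := k.add _ ((h1 u).trans hu) _ ((h1 v).trans hv) ((h2 u v).trans h)
    rw [← map_add] at this
    exact ⟨(h1 _).symm.trans this.1, this.2⟩

theorem clawFree_plus {lam : (Fin 3 ⊕ Fin 3 → ZMod 2) → G}
    (k : SK (quadPlus (ZMod 2) 3).polarBilin {v | quadPlus (ZMod 2) 3 v = 1} lam S) : ClawFree S := by
  have h1 : ∀ x ∈ S, ∃ u < 64, qP u % 2 = 1 ∧ quadPlus (ZMod 2) 3 (dP u) = 1 ∧ lam (dP u) = x := fun x hx => by
    obtain ⟨v, hv, rfl⟩ := k.surj x hx
    obtain ⟨u, hu, rfl⟩ := exists_dP v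
    exact ⟨u, hu, natCast_two_eq_one.1 ((quadPlus_dP hu).symm.trans hv), hv, rfl⟩
  have h2 : ∀ u < 64, ∀ v < 64, quadPlus (ZMod 2) 3 (dP u) = 1 → quadPlus (ZMod 2) 3 (dP v) = 1 →
      (Commute (lam (dP u)) (lam (dP v)) ↔ bP u v % 2 = 0) := fun u hu v hv a b => by
    rw [k.comm _ a _ b, polarBilin_apply_apply, polar_dP hu hv, natCast_two_eq_zero]
  intro p hp a ha b hb c hc n1 n2 n3 c1 c2 c3
  obtain ⟨p, p1, p2, p3, rfl⟩ := h1 p hp
  obtain ⟨a, a1, a2, a3, rfl⟩ := h1 a ha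
  obtain ⟨b, b1, b2, b3, rfl⟩ := h1 b hb
  obtain ⟨c, d1, d2, d3, rfl⟩ := h1 c hc
  rw [h2 _ p1 _ a1 p3 a3, h2 _ p1 _ b1 p3 b3, h2 _ p1 _ d1 p3 d3]
  exact plus_clawFree a a1 a2 b b1 ⟨b2, (h2 _ a1 _ b1 a3 b3).1 c1, fun h => n1 (by rw [h])⟩ c d1 ⟨d2,
    (h2 _ a1 _ d1 a3 d3).1 c2, (h2 _ b1 _ d1 b3 d3).1 c3, fun h => n2 (by rw [h]),
    fun h => n3 (by rw [h])⟩ p p1 p2

theorem qk_of_minus {lam : ((Fin 2 ⊕ Fin 2) ⊕ Fin 2 → ZMod 2) → G}
    (k : SK (quadMinus (ZMod 2) 2 1 1).polarBilin {v | quadMinus (ZMod 2) 2 1 1 v = 1} lam S) :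
    QK (sq5 2) (fun v => lam (dM (tabO (v 0) (v 1) (v 2) (v 3) (v 4)))) S := by
  have h1 : ∀ v, sq5 2 v = 1 → quadMinus (ZMod 2) 2 1 1 (dM (tabO (v 0) (v 1) (v 2) (v 3) (v 4))) = 1 :=
    fun v hv => by rw [quadMinus_dM (tabO_lt ..), (tabO_q _ _ _ _ _ ((sq5_apply _ v).symm.trans hv)).1]; rfl
  refine ⟨k.wt, sq5_nondeg (by decide), fun v hv => k.mem _ (h1 v hv), fun x hx => ?_, fun y v hy hv => ?_,
    fun u v hu hv => ⟨fun h => ?_, ?_⟩⟩
  · obtain ⟨v, hv, rfl⟩ := k.surj x hx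
    obtain ⟨u, hu, rfl⟩ := exists_dM v
    obtain ⟨a, b, c, d, e, h2, rfl⟩ := tabO_surj u hu (natCast_two_eq_one.1 ((quadMinus_dM hu).symm.trans hv))
    exact ⟨![a, b, c, d, e], (sq5_apply _ _).trans h2, rfl⟩
  · have h2 := (tabO_law _ _ _ _ _ ((sq5_apply _ y).symm.trans hy) _ _ _ _ _ ((sq5_apply _ v).symm.trans hv)).1
    have h3 := polar_dM (tabO_lt (v 0) (v 1) (v 2) (v 3) (v 4)) (tabO_lt (y 0) (y 1) (y 2) (y 3) (y 4))
    simp only [polar_sq5, Pi.sub_apply, Pi.smul_apply, smul_eq_mul, h2]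
    split_ifs with h
    · rw [h] at h3
      exact (tri_of_commute (k.wt.sq _ (k.mem _ (h1 y hy))) ((k.comm _ (h1 v hv) _ (h1 y hy)).2 h3).symm).symm
    · rw [dM_xor]
      refine (k.add _ (h1 v hv) _ (h1 y hy) (h3.trans (natCast_two_eq_one.2 ?_))).2
      unfold bM at h ⊢
      omega
  · have h2 := (tabO_law _ _ _ _ _ ((sq5_apply _ u).symm.trans hu) _ _ _ _ _ ((sq5_apply _ v).symm.trans hv)).2
    exact (h2 (dM_inj (tabO_lt ..) (tabO_lt ..) (k.inj (h1 u hu) (h1 v hv) h))).imp vec5_ext vec5_ext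
  · rintro (rfl | rfl)
    · rfl
    · simp only [Pi.neg_apply, (tabO_q _ _ _ _ _ ((sq5_apply _ v).symm.trans hv)).2]

theorem o3k_of_o2k {Q : QuadraticForm (ZMod 2) (Fin 6 → ZMod 2)} {lam : (Fin 6 → ZMod 2) → G}
    (k : SK Q.polarBilin {v | Q v = 1} lam S) (hc : ¬ ClawFree S) : IsO3K 5 S := by
  have h : (Formed.ofQuad Q).Nondeg := fun v hv => k.nd v fun u _ => (polar_comm Q u v).trans (hv u)
  rcases wittIndex_even h (m := 2) (by simp) with hw | hw
  · obtain ⟨e, he⟩ := exists_isIso_plus h (by simp) hw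
    exact absurd (clawFree_plus (k.congr he)) hc
  · obtain ⟨e, he⟩ := exists_isIso_minus h (by simp) hw (a := 1) (b := 1) (by decide)
    exact ⟨5, _, _, le_rfl, qk_of_minus (k.congr he)⟩

/-! ### `U₄(2)` -/

/-- The table for `U₄(2)`. -/
def tabU (a b c d e : ZMod 3) : ℕ := Nat.land (Nat.shiftRight
  0x450000001cd08814e00000000014b00000008a1ca04400018900a00000518f00000000000000000004900000018b0841c90000000001ce00000008618d04800014f00600000914a0000000000000cd04f00008d04200000000000004304e00008f0ce0000000000000000000000000000000000000030000000860000001ce04818d00000000018b0000000491c908400014a00900000614f00000000000000000008a00000014b0441ca0000000001cd00000004514e08800018f00500000a1890000000000000ce08f00004e04300000000000004208d00004f0cd0000000000000000000000000000000000000031cc10b0001c810c00000000000010810f0001cf1cb00000000000000000000000000000000000000c1cb1cf00010f10800000000000010c1c800010b1cc00000000000000000000000000000000000000c00000000000000000000000000f00000000000000000000000000f0000000cc0000000cc0cf0cf000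
  (12 * enc5 a b c d e)) 4095

theorem tabU_lt (a b c d e : ZMod 3) : tabU a b c d e < 4096 := Nat.lt_succ_of_le Nat.and_le_right

theorem tabU_q : ∀ a b c d e, 1 * dot5 a b c d e a b c d e = 1 → isoc (tabU a b c d e) = true ∧
    hc (tabU a b c d e) 16 = 0 ∧ hc (tabU a b c d e) 32 = 0 ∧
    tabU (-a) (-b) (-c) (-d) (-e) = tabU a b c d e := by decide +kernel

set_option synthInstance.maxSize 100000 in
theorem tabU_surj (u : ℕ) (hu : u < 4096) : hc u 16 = 0 ∧ hc u 32 = 0 ∧ isoc u = true →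
    ∃ a b c d e, 1 * dot5 a b c d e a b c d e = 1 ∧ nprop u (tabU a b c d e) = false := by
  have key : ∀ x < 64, ∀ y < 64, hc (x + 64 * y) 16 = 0 ∧ hc (x + 64 * y) 32 = 0 ∧ isoc (x + 64 * y) = true →
      ∃ a b c d e, 1 * dot5 a b c d e a b c d e = 1 ∧ nprop (x + 64 * y) (tabU a b c d e) = false := by
    decide +kernel
  have := key (u % 64) (by omega) (u / 64) (by omega)
  rwa [Nat.mod_add_div] at this

theorem tabU_law : All2 1 fun a b c d e a' b' c' d' e' =>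
    nprop (tabU (a' - 2 * 1 * dot5 a b c d e a' b' c' d' e' * a) (b' - 2 * 1 * dot5 a b c d e a' b' c' d' e' * b)
      (c' - 2 * 1 * dot5 a b c d e a' b' c' d' e' * c) (d' - 2 * 1 * dot5 a b c d e a' b' c' d' e' * d)
      (e' - 2 * 1 * dot5 a b c d e a' b' c' d' e' * e)) (tc (tabU a b c d e) (tabU a' b' c' d' e')) = false ∧
    (nprop (tabU a b c d e) (tabU a' b' c' d' e') = false → (a = a' ∧ b = b' ∧ c = c' ∧ d = d' ∧ e = e') ∨
      (a = -a' ∧ b = -b' ∧ c = -c' ∧ d = -d' ∧ e = -e')) := by decide +kernel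

theorem nprop_false {v x : ℕ} (h : nprop v x = false) : ∃ c : F, dec F v = c • dec F x := by
  unfold nprop at h
  have key : ∀ (w : ℕ) (b : Bool), Spor.iteB (Nat.beq v w) false b = false → v = w ∨ b = false := by
    intro w b hb
    cases e : Nat.beq v w
    · rw [e] at hb; exact .inr hb
    · exact .inl (Nat.eq_of_beq_eq_true e)
  rcases key _ _ h with rfl | h
  · exact ⟨0, by rw [dec_zero, zero_smul]⟩
  rcases key _ _ h with rfl | h
  · exact ⟨1, (one_smul _ _).symm⟩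
  rcases key _ _ h with rfl | h
  · exact ⟨_, dec_omc x⟩
  rcases key _ _ h with rfl | h
  · exact ⟨_, by rw [dec_omc, dec_omc, smul_smul]⟩
  · exact absurd h (by decide)

omit [Fintype F] hF in
/-- The first four coordinates. -/
def res4 (x : Fin 6 → F) : Fin 4 → F := fun i => x (i.castLE (by decide))

omit [Fintype F] hF in
theorem hn_res4 {x : Fin 6 → F} (h4 : x 4 = 0) (h5 : x 5 = 0) (y : Fin 6 → F) :
    hn (res4 x) (res4 y) = hf x y := by
  simp [hermForm, Fin.sum_univ_succ, res4, h4, h5]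

omit [Field F] [Fintype F] hF in
theorem res4_inj {x y : Fin 6 → F} (h4 : x 4 = y 4) (h5 : x 5 = y 5) (h : res4 x = res4 y) : x = y := by
  funext i; fin_cases i
  exacts [congrFun h 0, congrFun h 1, congrFun h 2, congrFun h 3, h4, h5]

theorem dec_four {u : ℕ} : dec F u 4 = 0 ↔ hc u 16 = 0 := by
  rw [← hf_dec_eq_zero (F := F), show dec F 16 = Pi.single 4 1 by
    funext i; fin_cases i <;> simp [dec, bF, Nat.testBit], hf, Classical.herm_single_right]

theorem dec_five {u : ℕ} : dec F u 5 = 0 ↔ hc u 32 = 0 := by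
  rw [← hf_dec_eq_zero (F := F), show dec F 32 = Pi.single 5 1 by
    funext i; fin_cases i <;> simp [dec, bF, Nat.testBit], hf, Classical.herm_single_right]

theorem qk_of_uk4 {lam : (Fin 4 → F) → G} (k : UKn lam S) :
    QK (sq5 1) (fun v => lam (res4 (dec F (tabU (v 0) (v 1) (v 2) (v 3) (v 4))))) S := by
  have h0 : ∀ v, sq5 1 v = 1 → dec F (tabU (v 0) (v 1) (v 2) (v 3) (v 4)) 4 = 0 ∧
      dec F (tabU (v 0) (v 1) (v 2) (v 3) (v 4)) 5 = 0 := fun v hv =>
    let h := (tabU_q _ _ _ _ _ ((sq5_apply _ v).symm.trans hv)).2; ⟨dec_four.2 h.1, dec_five.2 h.2.1⟩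
  have h1 : ∀ v, sq5 1 v = 1 → Ison (res4 (dec F (tabU (v 0) (v 1) (v 2) (v 3) (v 4)))) := fun v hv => by
    have h := (iso_dec (F := F) (tabU_lt ..)).2 (tabU_q _ _ _ _ _ ((sq5_apply _ v).symm.trans hv)).1
    exact ⟨fun e => h.1 (res4_inj (y := 0) (h0 v hv).1 (h0 v hv).2 e),
      (hn_res4 (h0 v hv).1 (h0 v hv).2 _).trans h.2⟩
  refine ⟨k.wt, sq5_nondeg (by decide), fun v hv => k.mem _ (h1 v hv), fun x hx => ?_, fun y v hy hv => ?_,
    fun u v hu hv => ⟨fun h => ?_, ?_⟩⟩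
  · obtain ⟨v, hv, rfl⟩ := k.surj x hx
    obtain ⟨u, hu, e⟩ := exists_dec (F := F) ![v 0, v 1, v 2, v 3, 0, 0]
    have e4 : dec F u 4 = 0 := by rw [e]; rfl
    have e5 : dec F u 5 = 0 := by rw [e]; rfl
    have e1 : res4 (dec F u) = v := by rw [e]; funext i; fin_cases i <;> rfl
    obtain ⟨a, b, c, d, e, h2, h3⟩ := tabU_surj u hu ⟨dec_four.1 e4, dec_five.1 e5, (iso_dec hu).1
      ⟨fun h => hv.1 (by rw [← e1, h]; rfl), by rw [← hn_res4 e4 e5, e1]; exact hv.2⟩⟩
    obtain ⟨t, ht⟩ := nprop_false (F := F) h3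
    have h4 : sq5 1 ![a, b, c, d, e] = 1 := (sq5_apply _ _).trans h2
    exact ⟨_, h4, ((k.eq_iff _ _ hv (h1 _ h4)).2 ⟨t, by rw [← e1, ht]; rfl⟩).symm⟩
  · have h2 := (tabU_law _ _ _ _ _ ((sq5_apply _ y).symm.trans hy) _ _ _ _ _ ((sq5_apply _ v).symm.trans hv)).1
    obtain ⟨t, ht⟩ := nprop_false (F := F) h2
    have h3 : sq5 1 (v - polar (sq5 1) y v • y) = 1 := by
      have := OG.map_Q (refl (sq5 1) y) v
      rwa [refl_apply, hy, inv_one, one_mul, hv] at this
    rw [← k.tv _ _ (h1 y hy) (h1 v hv), k.eq_iff _ _ (h1 _ h3) (Ison.tvn (h1 y hy) (h1 v hv))]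
    refine ⟨t, ?_⟩
    simp only [polar_sq5, Pi.sub_apply, Pi.smul_apply, smul_eq_mul, ht]
    rw [dec_tc, tvn, hn_res4 (h0 v hv).1 (h0 v hv).2]; rfl
  · have h2 := (tabU_law _ _ _ _ _ ((sq5_apply _ u).symm.trans hu) _ _ _ _ _ ((sq5_apply _ v).symm.trans hv)).2
    obtain ⟨t, ht⟩ := (k.eq_iff _ _ (h1 u hu) (h1 v hv)).1 h
    refine (h2 (Bool.eq_false_iff.2 fun e => nprop_spec (tabU_lt ..) (tabU_lt ..) e t
      (res4_inj ?_ ?_ ht))).imp vec5_ext vec5_ext
    · rw [Pi.smul_apply, (h0 u hu).1, (h0 v hv).1, smul_zero]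
    · rw [Pi.smul_apply, (h0 u hu).2, (h0 v hv).2, smul_zero]
  · rintro (rfl | rfl)
    · rfl
    · simp only [Pi.neg_apply, (tabU_q _ _ _ _ _ ((sq5_apply _ v).symm.trans hv)).2.2.2]

theorem o3k_of_uk4 (k : IsUK F 4 S) : IsO3K 5 S :=
  let ⟨_, k⟩ := k; ⟨5, _, _, le_rfl, qk_of_uk4 k⟩

end Cfsg.Agent.FI
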