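import Cfsg.Agent.Fischer.Words

/-! Fischer's theorem (helper16): certified word identities in `S₄`, `3^{1+2}:2`, `3³:S₄`, `2^{1+6}:SU₃(2)'`. -/

set_option autoImplicit false
set_option maxRecDepth 100000

namespace Cfsg.Agent.FI

open Cfsg.Agent.Fischer

/-- Certificate table. -/
def kb_s4_T : RT :=
    (.node [0,0] [] (.node [1,1] [] (.node [0,1] [1,0] (.node [2,0,1,2,1] [0,2,0,1,2] .nil .nil) .nil) (.node
    [1,2,1] [2,1,2] .nil .nil)) (.node [2,2] [] (.node [0,2,0] [2,0,2] .nil .nil) (.node [2,0,1,2,0]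
    [1,2,0,1,2] .nil .nil)))

/-- Certificate steps. -/
def kb_s4_P : List (List ℕ) :=
    [[1537, 2050, 2816, 1794], [2562, 2304]]

/-- Certificate steps. -/
def kb_s4_Q : List (List ℕ) :=
    [[3584, 3073, 1539], [3584, 3073, 3074, 513, 3073, 3586, 1793, 0, 1028, 515, 2, 1025], [3584, 3073, 3586,
    1793, 0, 3073, 512, 3584, 1028, 515, 2, 1025], [3584, 3073, 3074, 513, 3073, 3586, 1793, 0, 1028, 515, 2,
    1025], [1795, 1796, 3, 515, 3586, 1793, 0, 3073, 512]]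

/-- Identities in `S₄`. -/
theorem kb_s4 {G : Type*} [Monoid G] {a b c : G}
    (h0 : a * a = 1)
    (h1 : b * b = 1)
    (h2 : c * c = 1)
    (h3 : a * b = b * a)
    (h4 : a * c * a = c * a * c)
    (h5 : b * c * b = c * b * c) :
    c * a * b * c * b * a = a * b * c * b * a * c ∧
    c * a * b * c * b * a * a * a * b * c * b * a * c = b ∧
    c * a * b * c * b * a * b * a * b * c * b * a * c = a ∧
    c * a * b * c * b * a * a * a * b * c * b * a * c = b ∧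
    a * b * c * b * a * a * b * a * b * c * b * a = c * a * b * c := by
  have H := kb_sound (gl [a, b, c]) (T := kb_s4_T) (P := kb_s4_P) (Q := kb_s4_Q)
    (A := [([0,0], []), ([1,1], []), ([2,2], []), ([0,1], [1,0]), ([0,2,0], [2,0,2]), ([1,2,1], [2,1,2])])
    (B := [([2,0,1,2,1,0], [0,1,2,1,0,2]), ([2,0,1,2,1,0,0,0,1,2,1,0,2], [1]), ([2,0,1,2,1,0,1,0,1,2,1,0,2], [0]), ([2,0,1,2,1,0,0,0,1,2,1,0,2], [1]), ([0,1,2,1,0,0,1,0,1,2,1,0], [2,0,1,2])])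
    (by decide +kernel) (by
      simp only [List.forall_mem_cons, List.not_mem_nil, false_imp_iff, implies_true, and_true, ev_nil, ev_cons,
      gl_zero, gl_succ, mul_one, ← mul_assoc]
      exact ⟨h0, h1, h2, h3, h4, h5⟩)
  simpa only [List.forall_mem_cons, List.not_mem_nil, false_imp_iff, implies_true, and_true, ev_nil, ev_cons,
      gl_zero, gl_succ, mul_one, ← mul_assoc] using H

/-- Certificate table. -/
def kb_pl_T : RT :=
    (.node [0,0] [] (.node [1,1] [] (.node [0,1,0] [1,0,1] (.node [2,1,0,2,0] [1,2,1,0,2] (.node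
    [1,2,1,0,2,1,0] [0,2,1,0,2] .nil .nil) (.node [0,1,2,0,1,2,0] [1,2,0,1,2] .nil .nil)) (.node
    [0,1,0,2,0,1,2] [2,0,1,2,0] (.node [2,0,1,2,0,1] [0,1,2,0,1,2] .nil .nil) .nil)) (.node [1,2,1] [2,1,2]
    (.node [2,0,1,0,2,0] [0,1,0,2,0,1] (.node [2,1,0,2,1,0] [1,0,2,1,0,2] .nil .nil) .nil) (.node
    [0,2,0,1,0,2,1] [1,0,2,1,0] (.node [1,0,2,1,0,2] [0,2,1,0,2,1] .nil .nil) .nil))) (.node [2,2] [] (.node
    [0,2,0] [2,0,2] (.node [2,0,1,2,1] [0,2,0,1,2] (.node [1,2,1,0,2,1] [0,1,2,1,0,2] .nil .nil) .nil) (.node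
    [1,0,2,0,1,2] [0,2,0,1,2,0] (.node [0,1,0,2,1,0,2] [2,1,0,2,1] .nil .nil) .nil)) (.node [0,1,0,2,0,1,0]
    [2,0,1,0,2] (.node [1,0,2,0,1,0] [0,2,0,1,0,2] (.node [0,2,0,1,2,0,1] [1,2,0,1,2] .nil .nil) .nil) (.node
    [2,0,1,0,2,1] [0,1,0,2,1,0] (.node [1,2,0,1,0,2] [0,1,2,0,1,0] .nil .nil) .nil))))

/-- Certificate steps. -/
def kb_pl_P : List (List ℕ) :=
    [[2050, 2816], [2562, 2304], [3328, 6], [256, 3073], [4864, 2308, 3], [256, 5633], [5376, 1796, 3], [256,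
    6657], [3840, 5121, 2304, 2], [262, 7680, 3585], [768, 7681], [6400, 4098, 1], [256, 9217], [7424, 2820,
    1794, 1], [256, 10241], [1538, 2560, 258, 4355, 3584, 8192, 1029, 1795], [9984, 11521, 2816, 1794, 4]]

/-- Certificate steps. -/
def kb_pl_Q : List (List ℕ) :=
    [[11776, 256], [4098, 5632, 5888, 1536], [1029, 1285, 9984], [11776, 4097, 6144, 2308, 4609, 0, 5120,
    6656, 10752, 8705, 10240, 516, 1027, 2, 513, 1024], [259, 1540, 11520, 1538], [256, 4865], [0, 5120, 4609,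
    0, 256, 4865, 5376, 1539, 256, 1537, 2563, 261, 7424, 3328, 4864, 3328], [1792, 2, 1796, 3, 259, 258,
    2051, 772, 261, 7424, 3328], [1792, 1796, 3072, 3328, 2050, 772, 261, 1539], [1, 512, 4, 515, 258, 771,
    260, 1285, 5376, 259, 772, 256, 4865, 5376, 256]]

/-- The centre of an affine plane group. -/
theorem kb_pl {G : Type*} [Monoid G] {d c p : G}
    (h0 : d * d = 1)
    (h1 : c * c = 1)
    (h2 : p * p = 1)
    (h3 : d * c * d = c * d * c)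
    (h4 : d * p * d = p * d * p)
    (h5 : c * p * c = p * c * p)
    (h6 : d * c * d * p * d * c * d = p * d * c * d * p) :
    d * c * p * d * c * p * d = d * d * c * p * d * c * p ∧
    d * c * p * d * c * p * c = c * d * c * p * d * c * p ∧
    d * c * p * d * c * p * p = p * d * c * p * d * c * p ∧
    d * c * p * d * c * p * d * c * p * d * c * p * d * c * p * d * c * p = 1 ∧
    d * c * p * c * d = c * p * c * d * c * p * c ∧
    c * d * p * d * c = d * p * d * c * d * p * d ∧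
    d * d * c * d * p * d * c * d * d = d * c * d * p * d * c * d * d * d * c * d * p * d * c * d ∧
    c * d * c * d * p * d * c * d * c = d * c * d * p * d * c * d * c * d * c * d * p * d * c * d ∧
    c * d * c * p * c * d * c = d * c * p * c * d * c * d * c * p * c * d ∧
    c * d * d * c * d * p * d * c * d * d * c = d * d * c * d * p * d * c * d * d * c * d * d * c * d * p * d * c * d * d := by
  have H := kb_sound (gl [d, c, p]) (T := kb_pl_T) (P := kb_pl_P) (Q := kb_pl_Q)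
    (A := [([0,0], []), ([1,1], []), ([2,2], []), ([0,1,0], [1,0,1]), ([0,2,0], [2,0,2]), ([1,2,1], [2,1,2]), ([0,1,0,2,0,1,0], [2,0,1,0,2])])
    (B := [([0,1,2,0,1,2,0], [0,0,1,2,0,1,2]), ([0,1,2,0,1,2,1], [1,0,1,2,0,1,2]), ([0,1,2,0,1,2,2], [2,0,1,2,0,1,2]), ([0,1,2,0,1,2,0,1,2,0,1,2,0,1,2,0,1,2], []), ([0,1,2,1,0], [1,2,1,0,1,2,1]), ([1,0,2,0,1], [0,2,0,1,0,2,0]), ([0,0,1,0,2,0,1,0,0], [0,1,0,2,0,1,0,0,0,1,0,2,0,1,0]), ([1,0,1,0,2,0,1,0,1], [0,1,0,2,0,1,0,1,0,1,0,2,0,1,0]), ([1,0,1,2,1,0,1], [0,1,2,1,0,1,0,1,2,1,0]), ([1,0,0,1,0,2,0,1,0,0,1], [0,0,1,0,2,0,1,0,0,1,0,0,1,0,2,0,1,0,0])])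
    (by decide +kernel) (by
      simp only [List.forall_mem_cons, List.not_mem_nil, false_imp_iff, implies_true, and_true, ev_nil, ev_cons,
      gl_zero, gl_succ, mul_one, ← mul_assoc]
      exact ⟨h0, h1, h2, h3, h4, h5, h6⟩)
  simpa only [List.forall_mem_cons, List.not_mem_nil, false_imp_iff, implies_true, and_true, ev_nil, ev_cons,
      gl_zero, gl_succ, mul_one, ← mul_assoc] using H

/-- Certificate table. -/
def kb_beta_T : RT :=
    (.node [0,0] [] (.node [1,1] [] (.node [3,3] [] (.node [0,1,0,2,0,1,0] [2,0,1,0,2] (.node [3,2,0,1,3]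
    [2,3,2,0,1] .nil .nil) (.node [0,2,0,1,0,2,1] [1,0,2,1,0] .nil .nil)) (.node [3,2,0,3] [2,3,2,0] (.node
    [2,0,1,2,0,1,0] [0,2,0,1,2,0,1] .nil .nil) (.node [1,0,3,2,0,1,2] [0,3,2,0,1,2,0] .nil .nil))) (.node
    [0,2,0] [2,0,2] (.node [3,1] [1,3] (.node [2,0,1,0,2,0] [0,1,0,2,0,1] .nil .nil) (.node [1,2,1,0,2,1,0]
    [0,2,1,0,2] .nil .nil)) (.node [2,1,0,2,0] [1,2,1,0,2] (.node [0,1,0,2,0,1,2] [2,0,1,2,0] .nil .nil)
    .nil))) (.node [2,2] [] (.node [0,1,0] [1,0,1] (.node [3,0] [0,3] (.node [3,2,1,0,3] [2,3,2,1,0] .nil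
    .nil) (.node [2,0,1,0,2,1] [0,1,0,2,1,0] .nil .nil)) (.node [3,2,1,3] [2,3,2,1] (.node [3,2,0,1,2,3,2]
    [2,3,2,0,1,2,3] .nil .nil) (.node [0,2,0,1,2,0,1] [1,2,0,1,2] .nil .nil))) (.node [1,2,1] [2,1,2] (.node
    [3,2,3] [2,3,2] (.node [1,0,2,0,1,0] [0,2,0,1,0,2] .nil .nil) (.node [2,1,0,2,1,0] [1,0,2,1,0,2] .nil
    .nil)) (.node [2,0,1,2,1] [0,2,0,1,2] (.node [1,0,2,0,1,2] [0,2,0,1,2,0] .nil .nil) .nil))))

/-- Certificate steps. -/
def kb_beta_P : List (List ℕ) :=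
    [[4354, 5120], [4866, 5120], [2562, 3328], [3074, 2816], [4867, 5632], [4355, 6144], [3840, 6], [256,
    3585], [2052, 7168], [5380, 7680], [8960, 2820, 3], [256, 10753], [9472, 2308, 3], [256, 11777], [6912,
    9217, 2816, 2], [768, 12801], [4353, 4864, 11265, 4096], [11520, 7170, 1]]

/-- Certificate steps. -/
def kb_beta_Q : List (List ℕ) :=
    [[4096, 4609, 10242, 4616, 7172, 4099, 4105, 8202, 2824, 8709, 4100, 3, 4611, 4100, 7685, 7175, 4102,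
    6658, 513, 769, 6914, 4358, 7431, 266, 2056, 8453, 4356, 4867, 259, 4356, 12549, 2054, 3080, 772, 4869,
    6918, 258, 2048, 8961, 2564, 8454, 4357, 14592, 4870, 4357, 12550, 2055, 3081, 10507, 4874, 7424, 4868,
    6917, 4361, 260, 4357, 11008, 7426, 4870, 13575], [13325, 4620, 7176, 9730, 10752, 4, 7168, 1028, 2307, 2,
    4101, 6657, 1034, 2312, 10, 7175, 4102, 6658, 513, 769, 6914, 4358, 7431, 266, 2056, 8453, 4356, 4867,
    259, 4356, 12549, 2054, 3080, 772, 4869, 6918, 258, 2048, 8961, 2564, 8454, 4357, 14592, 4870, 4357,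
    12550, 2055, 3081, 10507, 4874, 7424, 4868, 6917, 4361, 260, 4357, 11008, 7426, 4870, 13575], [4096, 4609,
    10242, 4616, 7172, 4099, 4105, 6667, 4618, 3343, 2317, 12300, 4107, 9733, 4100, 3, 4618, 521, 4105, 8,
    10243, 1026, 4615, 7171, 4098, 13825, 0, 4102, 5, 4101, 4614, 5127, 1033, 4616, 7172, 8705, 4096, 4609,
    4098, 518, 2820, 4099, 2, 5634, 5, 1028, 4611, 4100, 1541], [4096, 4609, 10242, 4616, 7172, 4099, 4105,
    2316, 12299, 4106, 9, 4617, 7173, 4100, 3, 4104, 12, 523, 1034, 4105, 8, 4616, 7172, 4099, 10244, 2818,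
    1546, 1033, 520, 7, 1030, 4613, 4102, 3584, 1541, 3840]]

/-- Identities in `3³:S₄`. -/
theorem kb_beta {G : Type*} [Monoid G] {d c p x : G}
    (h0 : d * d = 1)
    (h1 : c * c = 1)
    (h2 : p * p = 1)
    (h3 : x * x = 1)
    (h4 : d * c * d = c * d * c)
    (h5 : d * p * d = p * d * p)
    (h6 : c * p * c = p * c * p)
    (h7 : d * c * d * p * d * c * d = p * d * c * d * p)
    (h8 : x * d = d * x)
    (h9 : x * c = c * x)
    (h10 : x * p * x = p * x * p) :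
    x * d * c * p * d * c * p * x * p * c * d * p * c * d * x = d * c * p * d * c * p * x * p * c * d * p * c * d * x * d * c * p * d * c * p * x * p * c * d * p * c * d ∧
    d * c * p * d * c * p * d * c * p * d * c * p * x * p * c * d * p * c * d * p * c * d * p * c * d = d * c * p * d * c * p * x * p * c * d * p * c * d * x * d * c * p * d * c * p * x * p * c * d * p * c * d ∧
    x * d * c * p * d * c * p * x * p * c * d * p * c * d * p * d * c * p * d * c * p * x * p * c * d * p * c * d * x = d * c * p * c * d ∧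
    x * d * c * p * d * c * p * x * p * c * d * p * c * d * c * p * c * d * c * p * d * c * p * x * p * c * d * p * c * d * x = d * c * d * p * d * c * d := by
  have H := kb_sound (gl [d, c, p, x]) (T := kb_beta_T) (P := kb_beta_P) (Q := kb_beta_Q)
    (A := [([0,0], []), ([1,1], []), ([2,2], []), ([3,3], []), ([0,1,0], [1,0,1]), ([0,2,0], [2,0,2]), ([1,2,1], [2,1,2]), ([0,1,0,2,0,1,0], [2,0,1,0,2]), ([3,0], [0,3]), ([3,1], [1,3]), ([3,2,3], [2,3,2])])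
    (B := [([3,0,1,2,0,1,2,3,2,1,0,2,1,0,3], [0,1,2,0,1,2,3,2,1,0,2,1,0,3,0,1,2,0,1,2,3,2,1,0,2,1,0]), ([0,1,2,0,1,2,0,1,2,0,1,2,3,2,1,0,2,1,0,2,1,0,2,1,0], [0,1,2,0,1,2,3,2,1,0,2,1,0,3,0,1,2,0,1,2,3,2,1,0,2,1,0]), ([3,0,1,2,0,1,2,3,2,1,0,2,1,0,2,0,1,2,0,1,2,3,2,1,0,2,1,0,3], [0,1,2,1,0]), ([3,0,1,2,0,1,2,3,2,1,0,2,1,0,1,2,1,0,1,2,0,1,2,3,2,1,0,2,1,0,3], [0,1,0,2,0,1,0])])
    (by decide +kernel) (by
      simp only [List.forall_mem_cons, List.not_mem_nil, false_imp_iff, implies_true, and_true, ev_nil, ev_cons,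
      gl_zero, gl_succ, mul_one, ← mul_assoc]
      exact ⟨h0, h1, h2, h3, h4, h5, h6, h7, h8, h9, h10⟩)
  simpa only [List.forall_mem_cons, List.not_mem_nil, false_imp_iff, implies_true, and_true, ev_nil, ev_cons,
      gl_zero, gl_succ, mul_one, ← mul_assoc] using H

/-- Certificate table. -/
def kb_beta2_T : RT :=
    (.node [0,0] [] (.node [1,1] [] (.node [3,3] [] (.node [0,1,0,2,0,1,0] [2,0,1,0,2] (.node [2,0,1,2,3,2]
    [3,2,0,1] .nil .nil) (.node [2,1] [2,0] .nil .nil)) (.node [3,0,1,2,0,1,2] [0,1,2,0,1,2,3] (.node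
    [2,0,1,2] [0,1] .nil .nil) .nil)) (.node [0,2,0] [2,0,2] (.node [3,1] [1,3] (.node [2,0,1,3] [0,1,2,3]
    .nil .nil) (.node [0,1] [] .nil .nil)) (.node [1,3,2,0,1,2] [1,2,0,1,2,3] (.node [0,1,2,1] [2,0] .nil
    .nil) .nil))) (.node [2,2] [] (.node [0,1,0] [1,0,1] (.node [3,0] [0,3] (.node [2,3,2,0,1] [0,1,2,3,2]
    .nil .nil) (.node [0,1,2] [2] .nil .nil)) (.node [0,1,3,2,0,1,2] [0,1,2,0,1,2,3] (.node [2,0,1] [0,1,2]
    .nil .nil) .nil)) (.node [1,2,1] [2,1,2] (.node [3,2,3] [2,3,2] (.node [2,0,1,2,3] [0,1,3] .nil .nil)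
    (.node [1] [0] .nil .nil)) (.node [3,2,0,1,2] [2,0,1,2,3] (.node [1,2,1] [0,2,0] .nil .nil) .nil))))

/-- Certificate steps. -/
def kb_beta2_P : List (List ℕ) :=
    [[4865, 4352, 5632], [256, 6145, 0], [768, 6657, 512], [7424, 1028], [7937, 1024], [4866, 4353, 1282,
    5376, 8193, 4096, 4609, 5122, 1028], [8961, 1024], [1796, 9216, 1538], [1283, 9728], [10496, 514], [256,
    10753], [768, 3073, 11264, 2817, 0], [10496, 12032, 513], [1282, 12288, 1024], [256, 12801]]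

/-- Certificate steps. -/
def kb_beta2_Q : List (List ℕ) :=
    [[13568]]

/-- A collapse of `3³:S₄`. -/
theorem kb_beta2 {G : Type*} [Monoid G] {d c p x : G}
    (h0 : d * d = 1)
    (h1 : c * c = 1)
    (h2 : p * p = 1)
    (h3 : x * x = 1)
    (h4 : d * c * d = c * d * c)
    (h5 : d * p * d = p * d * p)
    (h6 : c * p * c = p * c * p)
    (h7 : d * c * d * p * d * c * d = p * d * c * d * p)
    (h8 : x * d = d * x)
    (h9 : x * c = c * x)
    (h10 : x * p * x = p * x * p)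
    (h11 : x * d * c * p * d * c * p = d * c * p * d * c * p * x) :
    d = c := by
  have H := kb_sound (gl [d, c, p, x]) (T := kb_beta2_T) (P := kb_beta2_P) (Q := kb_beta2_Q)
    (A := [([0,0], []), ([1,1], []), ([2,2], []), ([3,3], []), ([0,1,0], [1,0,1]), ([0,2,0], [2,0,2]), ([1,2,1], [2,1,2]), ([0,1,0,2,0,1,0], [2,0,1,0,2]), ([3,0], [0,3]), ([3,1], [1,3]), ([3,2,3], [2,3,2]), ([3,0,1,2,0,1,2], [0,1,2,0,1,2,3])])
    (B := [([0], [1])])
    (by decide +kernel) (by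
      simp only [List.forall_mem_cons, List.not_mem_nil, false_imp_iff, implies_true, and_true, ev_nil, ev_cons,
      gl_zero, gl_succ, mul_one, ← mul_assoc]
      exact ⟨h0, h1, h2, h3, h4, h5, h6, h7, h8, h9, h10, h11⟩)
  simpa only [List.forall_mem_cons, List.not_mem_nil, false_imp_iff, implies_true, and_true, ev_nil, ev_cons,
      gl_zero, gl_succ, mul_one, ← mul_assoc] using H

/-- Certificate table. -/
def kb_gamma_T : RT :=
    (.node [0,0] [] (.node [1,1] [] (.node [3,3] [] (.node [0,1,0,2,0,1,0] [2,0,1,0,2] (.node [2,0,1,2,1]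
    [0,2,0,1,2] (.node [2,3,2,1,3,2,1] [1,3,2,1,3] .nil .nil) (.node [3,1,0,2,0,1,3,1,0] [1,0,2,0,1,3,1,0,2]
    .nil .nil)) (.node [0,1,0,2,0,1,2] [2,0,1,2,0] (.node [3,2,1,3,2,0,1,0] [1,3,2,1,3,2,0,1] .nil .nil)
    .nil)) (.node [3,1,2,1,3] [1,2,1,3,1,2,1] (.node [2,0,1,0,2,0] [0,1,0,2,0,1] (.node [3,1,2,3,1,2]
    [1,2,3,1,2,3] .nil .nil) (.node [1,2,0,1,2,3,1,0,2,1,0] [0,2,1,3,2,0,1,0,2,3,1] .nil .nil)) (.node
    [1,2,1,3,1,2,3] [3,1,2,3,1] (.node [2,3,2,0,1,0,2,3,2] [0,1,0,2,3,2,0,1,0] .nil .nil) .nil))) (.node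
    [0,2,0] [2,0,2] (.node [3,1,3] [1,3,1] (.node [3,1,2,3,2] [1,3,1,2,3] (.node [0,2,0,1,2,0,1] [1,2,0,1,2]
    .nil .nil) (.node [1,3,2,0,1,0,2,3,1,0] [0,1,2,0,1,3,1,0,2,1] .nil .nil)) (.node [1,2,1,0,2,1,0]
    [0,2,1,0,2] (.node [2,0,1,0,2,3,2,0,1,0,2] [3,2,0,1,0,2,3] .nil .nil) .nil)) (.node [3,1,0,3] [1,3,1,0]
    (.node [3,1,2,1,3,1] [1,2,1,3,1,2] (.node [2,1,3,2,1,3] [1,3,2,1,3,2] .nil .nil) .nil) (.node
    [1,3,1,2,1,3,2] [2,1,3,2,1] (.node [1,3,1,0,2,0,3,1,0] [0,2,0,1,3,1,0,2,3] .nil .nil) .nil)))) (.node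
    [2,2] [] (.node [0,1,0] [1,0,1] (.node [3,0] [0,3] (.node [3,2,1,3,1] [2,3,2,1,3] (.node [3,2,1,3,2,1]
    [2,1,3,2,1,3] .nil .nil) (.node [1,0,2,0,1,3,1,0,2,1] [0,3,2,0,1,0,2,3,1,0] .nil .nil)) (.node
    [1,0,2,0,1,2] [0,2,0,1,2,0] (.node [2,1,3,2,0,1,0,2,3,1,2,3] [1,3,2,1,3,2,0,1,2,3,1,2] .nil .nil) .nil))
    (.node [3,0,1,0,2,0,1,0,3] [0,1,0,2,0,1,0,3,0,1,0,2,0,1,0] (.node [1,0,2,0,1,0] [0,2,0,1,0,2] (.node
    [1,2,1,3,2,1,3] [3,2,1,3,2] .nil .nil) .nil) (.node [2,1,3,1,2,3] [1,3,1,2,3,1] (.node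
    [0,1,3,1,0,2,0,3,1,0] [2,0,1,3,1,0,2,3] .nil .nil) .nil))) (.node [1,2,1] [2,1,2] (.node [3,2,3] [2,3,2]
    (.node [3,1,0,2,3,2] [1,3,1,0,2,3] (.node [1,3,1,2,3,1,2] [2,3,1,2,3] .nil .nil) (.node
    [0,1,2,0,1,3,1,0,2,1,0] [1,3,2,0,1,0,2,3,1] .nil .nil)) (.node [2,1,0,2,1,0] [1,0,2,1,0,2] (.node
    [2,0,1,0,2,3,2,0,1,0] [3,2,0,1,0,2,3,2] .nil .nil) .nil)) (.node [2,1,0,2,0] [1,2,1,0,2] (.node
    [2,1,3,1,2,1] [1,3,1,2,1,3] (.node [2,1,3,2,1,0,3] [1,3,2,1,3,2,0] .nil .nil) .nil) (.node [3,1,2,1,3,2]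
    [1,2,1,3,2,1] (.node [1,0,2,0,1,3,1,0,2,3] [3,1,0,2,0,3,1,0] .nil .nil) .nil)))))

/-- Certificate steps. -/
def kb_gamma_P : List (List ℕ) :=
    [[4354, 4608], [2562, 3328], [3074, 2816], [4866, 5120], [5378, 4608], [5379, 6656], [3840, 6], [256,
    3585], [5632, 518], [768, 5889], [9984, 2820, 3], [256, 11777], [7424, 10241, 2816, 2], [768, 12801],
    [11008, 4612, 515], [768, 13825], [11520, 3332, 515], [768, 14849], [8448, 11265, 4608, 514], [1280,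
    15873], [12544, 7682, 1], [14592, 8706, 513], [768, 17409], [15616, 5124, 3330, 513], [768, 18433], [4357,
    18944], [2053, 16384, 18944], [2052, 18182, 19456], [3840, 4358, 10503, 9984, 4357, 3840, 6400, 4096,
    10242, 4097, 0], [1290, 20992], [21761, 1024], [4358, 9473, 4352, 22273, 5120, 1026, 4097, 9218], [256,
    22529], [23297, 512], [6917, 23808, 1545], [24320, 2311, 4102, 10241, 4096], [257, 24834, 2304, 2],
    [25344, 9], [17152, 25602]]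

/-- Certificate steps. -/
def kb_gamma_Q : List (List ℕ) :=
    [[4096, 13320, 26114, 4097, 0, 19968, 20736, 256, 26369, 13575]]

/-- Identities in `2^{1+6}:SU₃(2)'`. -/
theorem kb_gamma {G : Type*} [Monoid G] {d c p y : G}
    (h0 : d * d = 1)
    (h1 : c * c = 1)
    (h2 : p * p = 1)
    (h3 : y * y = 1)
    (h4 : d * c * d = c * d * c)
    (h5 : d * p * d = p * d * p)
    (h6 : c * p * c = p * c * p)
    (h7 : d * c * d * p * d * c * d = p * d * c * d * p)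
    (h8 : y * d = d * y)
    (h9 : y * c * y = c * y * c)
    (h10 : y * p * y = p * y * p)
    (h11 : y * c * p * c * y = c * p * c * y * c * p * c)
    (h12 : y * d * c * d * p * d * c * d * y = d * c * d * p * d * c * d * y * d * c * d * p * d * c * d) :
    y * d * c * p * d * c * p * y * p * c * d * p * c * d = d * c * p * d * c * p * y * p * c * d * p * c * d * y := by
  have H := kb_sound (gl [d, c, p, y]) (T := kb_gamma_T) (P := kb_gamma_P) (Q := kb_gamma_Q)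
    (A := [([0,0], []), ([1,1], []), ([2,2], []), ([3,3], []), ([0,1,0], [1,0,1]), ([0,2,0], [2,0,2]), ([1,2,1], [2,1,2]), ([0,1,0,2,0,1,0], [2,0,1,0,2]), ([3,0], [0,3]), ([3,1,3], [1,3,1]), ([3,2,3], [2,3,2]), ([3,1,2,1,3], [1,2,1,3,1,2,1]), ([3,0,1,0,2,0,1,0,3], [0,1,0,2,0,1,0,3,0,1,0,2,0,1,0])])
    (B := [([3,0,1,2,0,1,2,3,2,1,0,2,1,0], [0,1,2,0,1,2,3,2,1,0,2,1,0,3])])
    (by decide +kernel) (by
      simp only [List.forall_mem_cons, List.not_mem_nil, false_imp_iff, implies_true, and_true, ev_nil, ev_cons,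
      gl_zero, gl_succ, mul_one, ← mul_assoc]
      exact ⟨h0, h1, h2, h3, h4, h5, h6, h7, h8, h9, h10, h11, h12⟩)
  simpa only [List.forall_mem_cons, List.not_mem_nil, false_imp_iff, implies_true, and_true, ev_nil, ev_cons,
      gl_zero, gl_succ, mul_one, ← mul_assoc] using H

/-- Certificate table. -/
def kb_gamma2_T : RT :=
    (.node [0,0] [] (.node [1,1] [] (.node [3,3] [] (.node [0,1,0,2,0,1,0] [2,0,1,0,2] (.node [3,2,1,3,1]
    [2,3,2,1,3] (.node [2,1,3,2,1,3] [1,3,2,1,3,2] (.node [1,2,0,3] [0,3,1,2] .nil .nil) .nil) (.node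
    [0,2,1,3,2,0,1] [2,1,3,2,0] .nil .nil)) (.node [1,2,1,3,1,2,3] [3,1,2,3,1] (.node [1,2,3,2,1,0]
    [0,2,1,3,1,2] (.node [1,0,3,1,0,2] [2,3,2,0] .nil .nil) .nil) (.node [3,2,1,0,3] [0,2,1] .nil .nil)))
    (.node [3,1,2,1,3] [1,2,1,3,1,2,1] (.node [2,1,3,1,2,1] [1,3,1,2,1,3] (.node [2,1,3,1,2,0,1] [0,1,2,3,2]
    (.node [3,1,2,0] [0,1,2,3] .nil .nil) .nil) (.node [1,0,2,0,1,3,2] [3,2,0,1,0] .nil .nil)) (.node
    [2,3,2,1,3,2,1] [1,3,2,1,3] (.node [0,1,3,1,2,1,0,3] [1,2,3,2,0,1] (.node [1,2,3,2] [1,0,2,0] .nil .nil)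
    .nil) (.node [3,2,1,3] [0,2,1,0] .nil .nil)))) (.node [0,2,0] [2,0,2] (.node [3,1,3] [1,3,1] (.node
    [1,0,2,0,1,0] [0,2,0,1,0,2] (.node [1,2,0,1,2,3,2] [3,1,2,0,1] (.node [3,1,2,3] [0,1,2,0] .nil .nil) .nil)
    (.node [0,2,0,1,3,2,0] [1,3,2,0,1] .nil .nil)) (.node [1,3,1,2,1,3,2] [2,1,3,2,1] (.node [1,2,1,3,2,1,0]
    [0,2,0,1,3,1,2] (.node [2,0,1,0,2,3] [0,1,2,3,2,1] .nil .nil) .nil) (.node [2,1,0,3] [0,3,2,1] .nil
    .nil))) (.node [3,0,1,2,0,1,2] [0,1,2,0,1,2,3] (.node [0,2,0,1,0,2,1] [1,0,2,1,0] (.node [1,3,1,2,0,1,3]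
    [2,0,1,3,2] (.node [0,2,0,1,0,3] [2,3,2,1] .nil .nil) .nil) (.node [3,1,0,2,0,1,3] [2,0,1,0,2] .nil .nil))
    (.node [0,1,0,2,1,0,2] [2,1,0,2,1] (.node [1,0,2,0,1,3,1,2] [2,1,3,2,1,0] (.node [2,3] [2,0] .nil .nil)
    .nil) (.node [2,0,3,2] [1,0,3,1] .nil .nil))))) (.node [2,2] [] (.node [0,1,0] [1,0,1] (.node [3,0] [0,3]
    (.node [3,2,0,1,3,1] [2,3,2,0,1,3] (.node [3,1,2,0,1,2] [1,2,0,1,2,3] (.node [0,3,1,2,3] [1,2,0] .nil
    .nil) .nil) (.node [2,1,3,2,0,1] [0,2,1,3,2,0] .nil .nil)) (.node [2,1,3,1,2,3] [1,3,1,2,3,1] (.node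
    [1,2,3,2,0,1,0] [0,1,3,1,2,1,3] (.node [1,2,3,2,0] [0,3,1,0,2] .nil .nil) .nil) (.node [3,2,1,0] [0,2,1,3]
    .nil .nil))) (.node [3,0,1,0,2,0,1,0,3] [0,1,0,2,0,1,0,3,0,1,0,2,0,1,0] (.node [0,3,1,2,0,1,2]
    [0,1,2,0,1,2,3] (.node [2,1,3,1,2,0] [0,1,2,3,2,1] (.node [3,1,0,2,0] [0,1,2,3,2] .nil .nil) .nil) (.node
    [3,2,0,1,0,2] [1,0,2,0,1,3] .nil .nil)) (.node [3,2,1,3,2,1] [2,1,3,2,1,3] (.node [1,3,1,2,1,0,3]
    [0,1,2,3,2,0,1] (.node [2,3,2] [0,2,0] .nil .nil) .nil) (.node [2,0,3,2,1] [1,0,3] .nil .nil)))) (.node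
    [1,2,1] [2,1,2] (.node [3,2,3] [2,3,2] (.node [3,1,2,1,3,1] [1,2,1,3,1,2] (.node [2,0,1,2,3,2]
    [1,3,1,2,0,1] (.node [0,3,1,2,0] [1,2,3] .nil .nil) .nil) (.node [1,3,2,0,1,0] [0,2,0,1,3,2] .nil .nil))
    (.node [3,1,2,1,3,2] [1,2,1,3,2,1] (.node [3,2,0,1,3,2] [1,3,2,0,1,3] (.node [1,2,3,2,1] [1,0,2,0,1] .nil
    .nil) .nil) (.node [0,3,2,1,3] [2,1,0] .nil .nil))) (.node [3,2,0,3] [2,3,2,0] (.node [2,0,1,0,2,1]
    [0,1,0,2,1,0] (.node [0,1,2,3,2,1,0] [2,1,3,1,2] (.node [3,1,0,2,1,0] [1,3,1,2,1,3] .nil .nil) .nil)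
    (.node [1,3,2,1,3,2,0] [2,1,0,2,1] .nil .nil)) (.node [1,2,1,3,2,1,3] [3,2,1,3,2] (.node [0,2,1,3,2,0,1,3]
    [1,2,1,3,2,0] (.node [3] [0] .nil .nil) .nil) (.node [1,0,3,1,2] [2,0,3] .nil .nil))))))

/-- Certificate steps. -/
def kb_gamma2_P : List (List ℕ) :=
    [[4354, 5120], [4866, 5120], [4867, 7168], [256, 3585], [5632, 518], [768, 5889], [4352, 6656], [8960,
    2308, 3], [256, 10753], [9472, 4612, 515], [768, 11777], [9984, 3332, 515], [768, 12801], [7936, 9729,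
    4608, 514], [1280, 13825], [11520, 3332, 2306, 1], [13568, 5124, 3330, 513], [768, 15361], [256, 10241,
    0], [16640, 1029], [768, 16897], [17665, 1024], [774, 17920], [17664, 5124, 1027], [18688, 5], [256,
    19457], [2052, 19968, 9729], [3072, 19969, 2816], [19201, 4608, 514], [4358, 20736, 6], [256, 22017],
    [21249, 512], [21762, 8449, 4352, 21249, 13312, 517], [1799, 23552, 7171, 3329, 512], [256, 24065], [2560,
    24833, 1024], [25344, 6], [25857, 512], [26368, 1030], [26881, 1536], [16128, 14592, 23297, 27136, 11264,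
    14848], [4355, 1284, 15616, 27650, 1025, 512], [1796, 28160], [1792, 28161, 4096], [4352, 28929, 1536],
    [256, 29697], [29441, 1024], [772, 30720], [31488, 1027], [32001, 512], [32512, 1539], [256, 32769],
    [32512, 4099, 2], [256, 33793], [2562, 34304], [2560, 29186, 1], [30466, 4608], [31488, 2819, 4098, 1],
    [36609, 512], [3840, 35330], [256, 18689, 769, 9474, 36097, 4352, 2049, 3075, 256, 37121, 22784, 4357,
    9984, 19712, 37632, 3840, 6400, 4096, 34817, 0, 19968, 12289, 33282, 2305, 0], [772, 37888, 516], [768,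
    38401, 512], [1282, 38912, 2817, 0], [1280, 39425, 1024]]

/-- Certificate steps. -/
def kb_gamma2_Q : List (List ℕ) :=
    [[39936]]

/-- A collapse of `2^{1+6}:SU₃(2)'`. -/
theorem kb_gamma2 {G : Type*} [Monoid G] {d c p y : G}
    (h0 : d * d = 1)
    (h1 : c * c = 1)
    (h2 : p * p = 1)
    (h3 : y * y = 1)
    (h4 : d * c * d = c * d * c)
    (h5 : d * p * d = p * d * p)
    (h6 : c * p * c = p * c * p)
    (h7 : d * c * d * p * d * c * d = p * d * c * d * p)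
    (h8 : y * d = d * y)
    (h9 : y * c * y = c * y * c)
    (h10 : y * p * y = p * y * p)
    (h11 : y * c * p * c * y = c * p * c * y * c * p * c)
    (h12 : y * d * c * d * p * d * c * d * y = d * c * d * p * d * c * d * y * d * c * d * p * d * c * d)
    (h13 : y * d * c * p * d * c * p = d * c * p * d * c * p * y) :
    y = d := by
  have H := kb_sound (gl [d, c, p, y]) (T := kb_gamma2_T) (P := kb_gamma2_P) (Q := kb_gamma2_Q)
    (A := [([0,0], []), ([1,1], []), ([2,2], []), ([3,3], []), ([0,1,0], [1,0,1]), ([0,2,0], [2,0,2]), ([1,2,1], [2,1,2]), ([0,1,0,2,0,1,0], [2,0,1,0,2]), ([3,0], [0,3]), ([3,1,3], [1,3,1]), ([3,2,3], [2,3,2]), ([3,1,2,1,3], [1,2,1,3,1,2,1]), ([3,0,1,0,2,0,1,0,3], [0,1,0,2,0,1,0,3,0,1,0,2,0,1,0]), ([3,0,1,2,0,1,2], [0,1,2,0,1,2,3])])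
    (B := [([3], [0])])
    (by decide +kernel) (by
      simp only [List.forall_mem_cons, List.not_mem_nil, false_imp_iff, implies_true, and_true, ev_nil, ev_cons,
      gl_zero, gl_succ, mul_one, ← mul_assoc]
      exact ⟨h0, h1, h2, h3, h4, h5, h6, h7, h8, h9, h10, h11, h12, h13⟩)
  simpa only [List.forall_mem_cons, List.not_mem_nil, false_imp_iff, implies_true, and_true, ev_nil, ev_cons,
      gl_zero, gl_succ, mul_one, ← mul_assoc] using H

end Cfsg.Agent.FI
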