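import Cfsg.Agent.FI.E6D
import Cfsg.Agent.Spor.Fi22Card
import Cfsg.Agent.Chev.DiagCent
import Cfsg.Agent.ChAut.TwE6
import Cfsg.Prelude.Def_KGroupFacts

/-! Fi22 inside the twisted group of type E6 over the field with four elements, acting absolutely irreducibly, and
three classes of such subgroups (helper16). -/

set_option autoImplicit false
set_option maxRecDepth 100000

namespace Cfsg.Agent.FI.E6F

open Cfsg.Agent.Spor Cfsg.Agent.FI.F4M Cfsg.Lie Cfsg.Agent.Chev Matrix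

variable {K : Type*} [Field K]

theorem xMat_eq (r : Fin chevE6.nroots) (h : ∀ s u : Fin chevE6.nroots, ∀ q ∈ chevE6.chainCoeff r.1 s u, q.1 = 1)
    (t : K) (a b : chevE6.Idx) :
    chevE6.xMat K r t a b = (1 : Matrix _ _ K) a b + t * (aZ r a b : K) + t ^ 2 * (bZ r a b : K) := by
  rcases a with i | u <;> rcases b with j | s <;> simp only [ChevalleyDatum.xMat, of_apply, aZ, bZ, one_apply]
  · simp
  · split_ifs <;> simp_all [mul_comm]
  · split_ifs <;> simp_all [mul_comm]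
  · by_cases h1 : s = r
    · simp [h1]
    by_cases h2 : s.val = chevE6.negIdx.getD r.val 0
    · by_cases h3 : u = s
      · simp [h1, h2, h3]
      · by_cases h4 : u = r <;> simp [h1, h2, h3, h4, Ne.symm h1]
    · simp only [h1, h2, if_false, or_self, false_and, and_false, Int.cast_zero, mul_zero, add_zero, Sum.inr.injEq,
        Int.cast_list_sum, List.map_map, ← List.sum_map_mul_left]
      congr 2
      exact List.map_congr_left fun q hq => by simp [h s u q hq, mul_comm]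

def eI : chevE6.Idx ≃ Fin D.K := finSumFinEquiv (m := 6) (n := 72)

theorem eI_val (a : chevE6.Idx) : (eI a).1 = ix a := by cases a <;> rfl

noncomputable def τ : GL chevE6.Idx K →* Matrix (Fin D.K) (Fin D.K) K :=
  (reindexRingEquiv K eI).toMonoidHom.comp (Units.coeHom _)

theorem τ_inj : Function.Injective (τ (K := K)) := (reindexRingEquiv K eI).injective.comp Units.val_injective

variable (f : ZMod D.p →+* K) {ω : K} (hω : ω * ω = ω + 1)

theorem τ_x (k : Fin 12) (t : K) : τ ((adS chevE6 K).xN (roots.getD k 0) t) =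
    1 + t • f.mapMatrix (D.bM (aN k)) + t ^ 2 • f.mapMatrix (D.bM (bN k)) := by
  ext i l
  obtain ⟨a, rfl⟩ := eI.surjective i
  obtain ⟨b, rfl⟩ := eI.surjective l
  have e : ∀ (z : ℤ) (V : ℕ), z % 2 = dg 8 V (ix b * 78 + ix a) → (z : K) = f.mapMatrix (D.bM V) (eI a) (eI b) :=
    fun z V h => by
      rw [RingHom.mapMatrix_apply, map_apply, BP.bM, of_apply, eI_val, eI_val, ← map_intCast f, ← Int.cast_natCast]
      exact congrArg f ((ZMod.intCast_mod z 2).symm.trans (congrArg _ h))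
  have e1 : τ ((adS chevE6 K).xN (roots.getD k 0) t) (eI a) (eI b) = chevE6.xMat K (rt k) t a b := by
    change (((adS chevE6 K).xN _ t : GL chevE6.Idx K) : Matrix _ _ K) (eI.symm (eI a)) (eI.symm (eI b)) = _
    rw [eI.symm_apply_apply, eI.symm_apply_apply, coe_xN]
    exact congrFun (congrFun (dif_pos (rt k).2) a) b
  rw [e1, xMat_eq _ (chkX k).1, e _ _ ((chkX k).2 a b).1, e _ _ ((chkX k).2 a b).2]
  simp [one_apply]

def wd (ω : K) (w : List (ℕ × ℕ)) : List (ℕ × K) := w.map fun a => (roots.getD a.1 0, ω ^ a.2)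

include hω

theorem xP_spec {k t : ℕ} (hk : k < 12) (ht : t < 3) :
    GP (xP k t) ∧ dec f ω (xP k t) = τ ((adS chevE6 K).xN (roots.getD k 0) (ω ^ t)) := by
  have h0 := (andB_eq_true _ _).1 (allN_spec okAB k hk)
  have h1 := BP.good_of_okV ok h0.1
  have h2 := BP.good_of_okV ok h0.2
  have h3 := addB_spec h1 h2
  have h4 : D.Good (D.idB 78) := gid.1
  have h5 : D.bM (D.idB 78) = 1 := BP.bM_idB ok
  have h8 : (2 : K) = 0 := by rw [← map_ofNat f 2, show (2 : ZMod D.p) = 0 from rfl, map_zero]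
  rw [τ_x f ⟨k, hk⟩]
  interval_cases t
  · refine ⟨⟨(addB_spec h4 h3.1).1, BP.good_zero⟩, (dec_zero _ _ _).trans ?_⟩
    simp [(addB_spec h4 h3.1).2, h3.2, h5, add_assoc, -RingHom.mapMatrix_apply]
  · refine ⟨⟨(addB_spec h4 h2).1, h3.1⟩, ?_⟩
    change f.mapMatrix (D.bM (addB _ _)) + ω • f.mapMatrix (D.bM (addB _ _)) = _
    simp only [(addB_spec h4 h2).2, h3.2, h5, map_add, map_one, pow_one, sq, hω]
    module
  · refine ⟨⟨(addB_spec h4 h1).1, h3.1⟩, ?_⟩
    change f.mapMatrix (D.bM (addB _ _)) + ω • f.mapMatrix (D.bM (addB _ _)) = _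
    have : (ω + 1) * (ω + 1) = ω := by linear_combination hω + (ω + 1) * h8
    simp only [(addB_spec h4 h1).2, h3.2, h5, map_add, map_one, sq, hω, this]
    module

theorem lP_spec {w : List (ℕ × ℕ)} (h : ∀ a ∈ w, a.1 < 12 ∧ a.2 < 3) :
    GP (lP w) ∧ dec f ω (lP w) = τ (gword (adS chevE6 K).x (wd ω w)) := by
  induction w with
  | nil => exact ⟨gid, (dec_id _ _).trans (map_one τ).symm⟩
  | cons a w ih =>
    have h1 := ih fun b hb => h b (.tail _ hb)
    have h2 := xP_spec f hω (h a (.head _)).1 (h a (.head _)).2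
    have h3 := mulP_spec f hω h2.1 h1.1
    exact ⟨h3.1, h3.2.trans (by rw [h1.2, h2.2, ← map_mul]; rfl)⟩

include f in
theorem lw_mem (x : ℕ) : gword (adS chevE6 K).x (wd ω (getL lw [] x)) ∈ twistedE6 K 2 := by
  refine getL_prop (p := fun w => gword (adS chevE6 K).x (wd ω w) ∈ twistedE6 K 2) _ _ _ (one_mem _) fun w hw => ?_
  have h8 : (2 : K) = 0 := by rw [← map_ofNat f 2, show (2 : ZMod D.p) = 0 from rfl, map_zero]
  have : (ω ^ 2) ^ 2 = ω := by linear_combination (ω ^ 2 + ω + 2) * hω + (ω + 1) * h8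
  rw [twistedE6, ChAut.genSubgroup_eq]
  refine Sys.mem_genW ?_
  simp only [lw, List.mem_cons, List.not_mem_nil, or_false] at hw
  rcases hw with rfl | rfl | rfl | rfl | rfl | rfl | rfl | rfl | rfl | rfl | rfl | rfl | rfl | rfl | rfl | rfl <;>
    simp [wd, roots, e6Words, e6p1, e6p2, e6p3, e6p4, e6p5, e6p6, e6m1, e6m2, e6m3, e6m4, e6m5, e6m6, this]

/-- The generators. -/
noncomputable def gen (y : ℕ) : twistedE6 K 2 := ev (fun x => ⟨_, lw_mem f hω x⟩) (gw y)

theorem τ_gen {y : ℕ} (hy : y < 9) : τ (gen f hω y : GL chevE6.Idx K) = dec f ω (getL Gs idP y) := by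
  rw [← ev_eq f hω okL (allN_spec chkG y hy)]
  refine (map_ev (τ.comp (twistedE6 K 2).subtype) _ _).trans (congrArg (ev · _) (funext fun x => ?_))
  have e : getL Ls idP x = lP (getL lw [] x) := by
    rw [getL_eq_getD, getL_eq_getD, Ls]; exact List.getD_map lw [] lP
  rw [e]
  exact (lP_spec f hω (getL_prop (p := fun w : List (ℕ × ℕ) => ∀ a ∈ w, a.1 < 12 ∧ a.2 < 3) _ _ _ (by simp) (by decide))).2.symm

theorem rels : ∀ r ∈ JFi22a.rels, ev (gen f hω) r = 1 := fun r hr => by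
  have h : eqP (appP Gs r idP) idP = true := by
    rw [← List.take_append_drop 46 JFi22a.rels, List.mem_append] at hr
    exact hr.elim (allL_spec chkR1 r) (allL_spec chkR2 r)
  refine Subtype.ext (τ_inj ?_)
  refine (map_ev (τ.comp (twistedE6 K 2).subtype) _ _).trans ?_
  refine (ev_congr (g' := fun x => dec f ω (getL Gs idP x)) fun x hx =>
    τ_gen f hω (lt_of_chkLet (nl := 9) (by decide +kernel) r hr x hx)).trans ?_
  rw [ev_eq f hω okG h, dec_id]
  exact (map_one τ).symm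

theorem cent {X : GL chevE6.Idx K} (h : ∀ y, 0 < y → y < 9 → Commute X (gen f hω y)) (z : GL chevE6.Idx K) :
    Commute X z := by
  obtain ⟨c, hc⟩ := scalar f hω okG chkZ (S := fun y => 0 < y ∧ y < 9) (by decide) (by decide) (X := τ X)
    fun y hy => τ_gen f hω hy.2 ▸ (h y hy.1 hy.2).map τ
  refine τ_inj ?_
  rw [map_mul, map_mul, hc]; simp

/-- The embedding of Fi22. -/
noncomputable def ψ : Cfsg.Spor.Fi22 →* twistedE6 K 2 := Fi22M.lt.toHom Fi22M.rp (rels f hω)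

theorem ψ_g {y : ℕ} (hy : y < 9) : ψ f hω (Fi22M.g y) = gen f hω y := Fi22M.lt.toHom_letG _ _ hy

theorem ψ_inj : Function.Injective (ψ f hω) := by
  have := Fi22M.simple
  refine injective_of_simple _ (x := Fi22M.g 3) fun h => ?_
  rw [ψ_g f hω (by decide)] at h
  have h1 : 1 * ((adS chevE6 K).x (rt 0) (ω ^ 0) * 1) = 1 := congrArg Subtype.val h
  exact one_ne_zero ((Sys.adCover chevE6 K).x_eq_one (by simpa using h1))

omit hω

theorem sq_inner {M : Type*} [Group M] (h : Nat.card (Cfsg.Out M) = 2) (α : MulAut M) :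
    ∃ m, α ^ 2 = MulAut.conj m := by
  obtain ⟨m, hm⟩ : α ^ 2 ∈ Cfsg.Inn M := by
    rw [← QuotientGroup.eq_one_iff, QuotientGroup.mk_pow, ← h, pow_card_eq_one']
  exact ⟨m, hm.symm⟩

open ChAut in
theorem dGL_sq (m g : GL chevE6.Idx K) (A B : Sm chevE6 → Kˣ) :
    m * ((dGL chevE6 K A)⁻¹ * g * dGL chevE6 K B * ((dGL chevE6 K A)⁻¹ * g * dGL chevE6 K B)) =
      m * MulAut.conj (dGL chevE6 K A⁻¹) g * MulAut.conj (dGL chevE6 K (B * (A * A)⁻¹)) g *
        dGL chevE6 K (B * B * (A * A)⁻¹) := by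
  have b1 : dGL chevE6 K (B * (A * A)⁻¹) = (dGL chevE6 K A)⁻¹ * (dGL chevE6 K B * (dGL chevE6 K A)⁻¹) := by
    rw [← map_inv, ← map_mul, ← map_mul]; congr 1; rw [mul_inv, mul_left_comm]
  have b2 : dGL chevE6 K (B * B * (A * A)⁻¹) = dGL chevE6 K (B * (A * A)⁻¹) * dGL chevE6 K B := by
    rw [← map_mul]; congr 1; rw [mul_right_comm]
  rw [b2, MulAut.conj_apply, MulAut.conj_apply, map_inv, b1]
  group

open Sys ChAut in
theorem three [Fintype K] (hK : Fintype.card K = 4) {M : Type*} [Group M] (ψ : M →* twistedE6 K 2)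
    (hψ : Function.Injective ψ) (ho : Nat.card (Cfsg.Out M) = 2)
    (hc : ∀ X : GL chevE6.Idx K, (∀ m, Commute X (ψ m)) → ∀ z, Commute X z) :
    ∃ H : Fin 3 → Subgroup (twistedE6 K 2), (∀ i, Nonempty (H i ≃* M)) ∧
      ∀ i j, i ≠ j → ∀ g : twistedE6 K 2, (H i).map (MulAut.conj g).toMonoidHom ≠ H j := by
  have hK' : Nat.card K = 2 ^ 2 := by rw [Nat.card_eq_fintype_card, hK]; rfl
  obtain ⟨φ, hφ, h2⟩ := exists_φE6 (K := K) (q := 2) Nat.prime_two.isPrimePow hK'
  have h3 : ∀ t : Kˣ, t ^ 3 = 1 := fun t => by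
    rw [← pow_card_eq_one' (x := t), Nat.card_units, hK']; rfl
  obtain ⟨ω, hω⟩ := exists_pow_ne_one (F := K) (n := 1) one_pos (by rw [hK']; decide)
  rw [pow_one] at hω
  let a : Fin 3 → Fin 6 → Kˣ := fun i => ![ω ^ i.1, 1, 1, 1, 1, (ω ^ i.1)⁻¹]
  have h6 : ∀ i, a i ∈ twE6.fixT symE6 φ := fun i => (mem_fixTE6 hφ).2 fun k => by
    have a1 : ∀ t : Kˣ, t⁻¹ = t ^ 2 := fun t => inv_eq_of_mul_eq_one_right (by rw [← pow_succ', h3])
    fin_cases k <;> simp [a, ← Units.val_pow_eq_pow_val, ← a1]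
  let Ψ : Fin 3 → M →* twistedE6 K 2 := fun i =>
    ((MulAut.conj (dGL chevE6 K (a i))).toMonoidHom.comp ((twistedE6 K 2).subtype.comp ψ)).codRestrict _
      fun y => al_memE6 hφ (h6 i) 1 _ (ψ y).2
  have h4 : ∀ i, Function.Injective (Ψ i) := fun i y z h =>
    hψ (Subtype.ext ((MulAut.conj _).injective (congrArg Subtype.val h)))
  refine ⟨fun i => (Ψ i).range, fun i => ⟨(MonoidHom.ofInjective (h4 i)).symm⟩, fun j i hij g hg => ?_⟩
  let α : MulAut M := (MonoidHom.ofInjective (h4 j)).trans (((MulAut.conj g).subgroupMap _).trans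
    ((MulEquiv.subgroupCongr hg).trans (MonoidHom.ofInjective (h4 i)).symm))
  set p := (dGL chevE6 K (a i))⁻¹ * g * dGL chevE6 K (a j) with hp
  have h5 : ∀ y, (ψ (α y) : GL chevE6.Idx K) = p * (ψ y : GL chevE6.Idx K) * p⁻¹ := fun y => by
    have b1 : Ψ i (α y) = g * Ψ j y * g⁻¹ := congrArg Subtype.val ((MonoidHom.ofInjective (h4 i)).apply_symm_apply _)
    have b2 : dGL chevE6 K (a i) * (ψ (α y) : GL chevE6.Idx K) * (dGL chevE6 K (a i))⁻¹ =
      g * (dGL chevE6 K (a j) * (ψ y : GL chevE6.Idx K) * (dGL chevE6 K (a j))⁻¹) * (g : GL chevE6.Idx K)⁻¹ := congrArg Subtype.val b1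
    rw [← mul_right_inj (dGL chevE6 K (a i)), ← mul_left_inj (dGL chevE6 K (a i))⁻¹, b2, hp]
    group
  obtain ⟨m, hm⟩ := sq_inner ho α
  have h7 := hc ((ψ m : GL chevE6.Idx K)⁻¹ * (p * p)) fun y => by
    have b1 := h5 (α y)
    rw [h5 y, show α (α y) = m * y * m⁻¹ from DFunLike.congr_fun ((sq α).symm.trans hm) y] at b1
    simp only [map_mul, map_inv, Subgroup.coe_mul, Subgroup.coe_inv] at b1
    rw [Commute, SemiconjBy, ← mul_right_inj (ψ m : GL chevE6.Idx K), ← mul_left_inj (p⁻¹ * p⁻¹)]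
    calc _ = p * (p * (ψ y : GL chevE6.Idx K) * p⁻¹) * p⁻¹ := by group
      _ = _ := by rw [← b1]; group
  have hU : ∀ y : twistedE6 K 2, (y : GL chevE6.Idx K) ∈ (adS chevE6 K).U Set.univ := fun y => (foldE6 hφ h2).le y.2
  have e := dGL_sq (ψ m : GL chevE6.Idx K)⁻¹ g (a i) (a j)
  rw [hp, e] at h7
  obtain ⟨c, hc⟩ := inndiag_cent (mul_mem (mul_mem (inv_mem (hU _)) ((dGL_mem_U _ _ _).2 (hU g)))
    ((dGL_mem_U _ _ _).2 (hU g))) _ (fun _ => ⟨1, one_mem _, h7 _⟩) fun _ => ⟨1, one_mem _, h7 _⟩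
  have h8 : chi (D := chevE6) c (sm (0 : Fin 6)) * chi (D := chevE6) c (sm (4 : Fin 6)) =
      chi (D := chevE6) c (sm (2 : Fin 6)) * chi (D := chevE6) c (sm (5 : Fin 6)) := by
    simp only [chi, ← Finset.prod_mul_distrib, ← _root_.zpow_add]
    refine Finset.prod_congr rfl fun k _ => ?_
    obtain ⟨n, hn⟩ := (by decide +kernel : ∀ k : Sm chevE6, (3 : ℤ) ∣ car k (sm (0 : Fin 6)) + car k (sm (4 : Fin 6)) -
      (car k (sm (2 : Fin 6)) + car k (sm (5 : Fin 6)))) k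
    rw [sub_eq_iff_eq_add.mp hn, _root_.zpow_add, _root_.zpow_mul, zpow_ofNat, h3, _root_.one_zpow, one_mul]
  rw [eq_inv_of_mul_eq_one_left (hc (0 : Fin 6)), eq_inv_of_mul_eq_one_left (hc (4 : Fin 6)),
    eq_inv_of_mul_eq_one_left (hc (2 : Fin 6)), eq_inv_of_mul_eq_one_left (hc (5 : Fin 6))] at h8
  have h9 : ω⁻¹ = ω ^ 2 := inv_eq_of_mul_eq_one_right (by rw [← pow_succ', h3])
  have a1 : (a j * a j * (a i * a i)⁻¹) 0 * (a j * a j * (a i * a i)⁻¹) 4 =
      (a j * a j * (a i * a i)⁻¹) 2 * (a j * a j * (a i * a i)⁻¹) 5 :=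
    inv_injective ((mul_inv _ _).trans (h8.trans (mul_inv _ _).symm))
  simp only [a, Pi.mul_apply, Pi.inv_apply, Matrix.cons_val, ← inv_pow, h9, ← pow_mul, mul_inv, ← pow_add,
    mul_one, one_mul, inv_one] at a1
  have a2 : orderOf ω = 3 := by
    have : Fact (Nat.Prime 3) := ⟨Nat.prime_three⟩
    exact orderOf_eq_prime (h3 ω) hω
  rw [pow_eq_pow_iff_modEq, a2, Nat.ModEq] at a1
  exact hij (Fin.ext (by omega))

theorem exists_data [Fintype K] (hK : Fintype.card K = 4) : ∃ (_ : ZMod D.p →+* K) (ω : K), ω * ω = ω + 1 := by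
  have : Fact (Nat.Prime 2) := ⟨Nat.prime_two⟩
  have : CharP K 2 := charP_of_card_eq_prime_pow (f := 2) (by rw [hK]; rfl)
  obtain ⟨ω, hω⟩ := exists_pow_ne_one (F := K) (n := 1) one_pos (by rw [Nat.card_eq_fintype_card, hK]; decide)
  refine ⟨ZMod.castHom (dvd_refl 2) K, ω, ?_⟩
  have h1 : (ω : K) ^ 3 = 1 := by simpa [hK] using FiniteField.pow_card_sub_one_eq_one (ω : K) ω.ne_zero
  have h2 : (ω : K) - 1 ≠ 0 := sub_ne_zero.2 fun h => hω (by rw [pow_one]; exact Units.ext h)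
  have h3 : (2 : K) = 0 := CharTwo.two_eq_zero
  refine mul_left_cancel₀ h2 ?_
  linear_combination h1 - ((ω : K) ^ 2 - 1) * h3

end Cfsg.Agent.FI.E6F
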