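import Cfsg.Agent.Spor.BigMat

/-! Kernel arithmetic for `78 × 78` matrices over the field with four elements, coded by pairs (helper16). -/

set_option autoImplicit false
set_option maxRecDepth 100000
set_option exponentiation.threshold 1000000

namespace Cfsg.Agent.FI.F4M

open Cfsg.Agent.Spor Matrix

def D : BP := ⟨8, 2, 78, [⟨1, 0, 0, 0, 1⟩]⟩

theorem ok : D.ok = true := by decide +kernel

noncomputable def addB (A B : ℕ) : ℕ := seq (Nat.add A B) D.red

theorem addB_spec {A B : ℕ} (hA : D.Good A) (hB : D.Good B) :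
    D.Good (addB A B) ∧ D.bM (addB A B) = D.bM A + D.bM B := by
  obtain ⟨-, -, -, H⟩ := BP.ok_spec ok
  have e : ∀ k, dg D.w (A + B) k = dg D.w A k + dg D.w B k :=
    dg_add fun k => lt_of_le_of_lt (Nat.add_le_add (hA k).1 (hB k).1) (by decide)
  obtain ⟨h1, h2⟩ := H (A + B) fun k => by
    rw [e]
    exact ⟨(Nat.add_le_add (hA k).1 (hB k).1).trans (by decide), fun hk => by rw [(hA k).2 hk, (hB k).2 hk]⟩
  rw [addB, seq_eq]
  refine ⟨h1, ?_⟩
  ext i l
  exact (congrArg Nat.cast (h2 _)).trans (by rw [ZMod.natCast_mod, e, Nat.cast_add]; rfl)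

noncomputable def frc {β : Type} (p : ℕ × ℕ) (k : ℕ × ℕ → β) : β :=
  Prod.rec (motive := fun _ => β) (fun a b => seq a fun a => seq b fun b => k (a, b)) p

theorem frc_eq {β : Type} (p : ℕ × ℕ) (k : ℕ × ℕ → β) : frc p k = k p :=
  (seq_eq _ fun a => seq p.2 fun b => k (a, b)).trans (seq_eq _ _)

noncomputable def addP (p q : ℕ × ℕ) : ℕ × ℕ := frc (addB p.1 q.1, addB p.2 q.2) fun r => r

noncomputable def mulP (p q : ℕ × ℕ) : ℕ × ℕ :=
  seq (D.mulB p.1 q.1) fun P => seq (D.mulB p.2 q.2) fun Q => seq (addB p.1 p.2) fun a => seq (addB q.1 q.2) fun b =>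
    seq (D.mulB a b) fun R => frc (addB P Q, addB R P) fun r => r

noncomputable def idP : ℕ × ℕ := (D.idB D.K, 0)

noncomputable def appP (As : List (ℕ × ℕ)) (w : List ℕ) : ℕ × ℕ → ℕ × ℕ :=
  List.rec (motive := fun _ => ℕ × ℕ → ℕ × ℕ) (fun Y => Y) (fun x _ ih Y => frc (mulP (getL As idP x) Y) ih) w

noncomputable def eqP (p q : ℕ × ℕ) : Bool := andB (Nat.beq p.1 q.1) (Nat.beq p.2 q.2)

theorem eqP_spec {p q : ℕ × ℕ} (h : eqP p q = true) : p = q :=
  have := (andB_eq_true _ _).1 h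
  Prod.ext (Nat.eq_of_beq_eq_true this.1) (Nat.eq_of_beq_eq_true this.2)

noncomputable def okP (p : ℕ × ℕ) : Bool := andB (D.okV 1 p.1) (D.okV 1 p.2)

def GP (p : ℕ × ℕ) : Prop := D.Good p.1 ∧ D.Good p.2

theorem okP_spec {p : ℕ × ℕ} (h : okP p = true) : GP p :=
  have := (andB_eq_true _ _).1 h
  ⟨BP.good_of_okV ok this.1, BP.good_of_okV ok this.2⟩

theorem gid : GP idP := okP_spec (by decide +kernel)

/-- Unpack one-bit digits. -/
noncomputable def sp (V : ℕ) : ℕ := D.spread 1 13 V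

noncomputable def spP (p : ℕ × ℕ) : ℕ × ℕ := frc (sp p.1, sp p.2) fun r => r

noncomputable def sumW (As : List (ℕ × ℕ)) (ws : List (List ℕ)) : ℕ × ℕ :=
  List.rec (0, 0) (fun w _ ih => addP (appP As w idP) ih) ws

noncomputable def shP (m : ℕ) : ℕ × ℕ := (Nat.shiftLeft (D.idB (Nat.sub 78 m)) (Nat.mul 624 m), 0)

noncomputable def spin (As : List (ℕ × ℕ)) (l : List (List ℕ × ℕ)) : ℕ × ℕ → ℕ × ℕ :=
  List.rec (motive := fun _ => ℕ × ℕ → ℕ × ℕ) (fun Y => Y)
    (fun s _ ih Y => frc (addP Y (mulP (appP As s.1 Y) (shP s.2))) ih) l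

/-- The certificate that only scalars commute with the letters `1, …, 8`. -/
noncomputable def chkC (As : List (ℕ × ℕ)) (th : List (List ℕ)) (l : List (List ℕ × ℕ)) (E T Z : ℕ × ℕ) : Bool :=
  andB (andB (andB (okP E) (andB (okP T) (okP Z))) (allL l fun s => okP (shP s.2)))
    (andB (frc (sumW As th) fun θ => andB (eqP (mulP θ E) (0, 0)) (eqP (addP (mulP T θ) E) idP))
      (andB (eqP (mulP E (1, 0)) E) (eqP (mulP (spin As l E) Z) idP)))

def i0 : Fin D.K := ⟨0, by decide⟩

variable {K : Type*} [Field K] (f : ZMod D.p →+* K) (ω : K)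

/-- The matrix coded by a pair. -/
def dec (p : ℕ × ℕ) : Matrix (Fin D.K) (Fin D.K) K := f.mapMatrix (D.bM p.1) + ω • f.mapMatrix (D.bM p.2)

theorem bM_zero : D.bM 0 = 0 := by ext i l; simp [BP.bM, dg_zero_left]

theorem dec_zero (A : ℕ) : dec f ω (A, 0) = f.mapMatrix (D.bM A) := by
  rw [dec, bM_zero, map_zero, smul_zero, add_zero]

theorem dec_id : dec f ω idP = 1 := by rw [idP, dec_zero, BP.bM_idB ok, map_one]

theorem dec_one : dec f ω (1, 0) = single i0 i0 1 := by
  rw [dec_zero]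
  ext i l
  rw [RingHom.mapMatrix_apply, map_apply, BP.bM, of_apply, dg_small (by decide), single_apply]
  have : (l : ℕ) * D.K + i = 0 ↔ i0 = i ∧ i0 = l := by
    simp only [Fin.ext_iff, show D.K = 78 from rfl, i0]; omega
  simp only [this]; split_ifs <;> simp

theorem addP_spec {p q : ℕ × ℕ} (hp : GP p) (hq : GP q) :
    GP (addP p q) ∧ dec f ω (addP p q) = dec f ω p + dec f ω q := by
  have h1 := addB_spec hp.1 hq.1
  have h2 := addB_spec hp.2 hq.2
  rw [addP, frc_eq]
  refine ⟨⟨h1.1, h2.1⟩, ?_⟩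
  simp only [dec, h1.2, h2.2, map_add]
  module

variable {ω} (hω : ω * ω = ω + 1)
include hω

theorem mulP_spec {p q : ℕ × ℕ} (hp : GP p) (hq : GP q) :
    GP (mulP p q) ∧ dec f ω (mulP p q) = dec f ω p * dec f ω q := by
  have h1 := BP.mulB_spec ok hp.1 hq.1
  have h2 := BP.mulB_spec ok hp.2 hq.2
  have h3 := addB_spec hp.1 hp.2
  have h4 := addB_spec hq.1 hq.2
  have h5 := BP.mulB_spec ok h3.1 h4.1
  have h6 := addB_spec h1.1 h2.1
  have h7 := addB_spec h5.1 h1.1
  simp only [mulP, seq_eq, frc_eq]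
  refine ⟨⟨h6.1, h7.1⟩, ?_⟩
  have h8 : (2 : K) = 0 := by rw [← map_ofNat f 2, show (2 : ZMod D.p) = 0 from rfl, map_zero]
  simp only [dec, h1.2, h2.2, h3.2, h4.2, h5.2, h6.2, h7.2, map_add, map_mul, add_mul, mul_add,
    smul_mul_assoc, mul_smul_comm, smul_add, smul_smul, hω]
  linear_combination (norm := module) (ω * h8) • (f.mapMatrix (D.bM p.1) * f.mapMatrix (D.bM q.1))

theorem appP_spec {As : List (ℕ × ℕ)} (hA : allL As okP = true) (w : List ℕ) {Y : ℕ × ℕ} (hY : GP Y) :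
    GP (appP As w Y) ∧ dec f ω (appP As w Y) = ev (fun x => dec f ω (getL As idP x)) w * dec f ω Y := by
  induction w generalizing Y with
  | nil => exact ⟨hY, (one_mul _).symm⟩
  | cons x w ih =>
    have h1 := mulP_spec f hω (getL_prop As idP x gid fun a ha => okP_spec (allL_spec hA a ha)) hY
    have e : appP As (x :: w) Y = appP As w (mulP (getL As idP x) Y) := frc_eq _ _
    rw [e, ev_cons, mul_assoc, ← h1.2]; exact ih h1.1

theorem ev_eq {As : List (ℕ × ℕ)} (hA : allL As okP = true) {w : List ℕ} {p : ℕ × ℕ}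
    (h : eqP (appP As w idP) p = true) : ev (fun x => dec f ω (getL As idP x)) w = dec f ω p := by
  rw [← eqP_spec h, (appP_spec f hω hA w gid).2, dec_id, mul_one]

theorem scalar {As : List (ℕ × ℕ)} (hA : allL As okP = true) {th : List (List ℕ)} {l : List (List ℕ × ℕ)} {E T Z : ℕ × ℕ}
    (h : chkC As th l E T Z = true) {S : ℕ → Prop} (h1 : ∀ w ∈ th, ∀ x ∈ w, S x) (h2 : ∀ s ∈ l, ∀ x ∈ s.1, S x)
    {X : Matrix (Fin D.K) (Fin D.K) K} (hX : ∀ x, S x → Commute X (dec f ω (getL As idP x))) : ∃ c : K, X = c • 1 := by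
  simp only [chkC, andB_eq_true, frc_eq] at h
  obtain ⟨⟨⟨hE, hT, hZ⟩, hl⟩, ⟨a1, a2⟩, a3, a4⟩ := h
  replace hE := okP_spec hE
  have c1 : ∀ w : List ℕ, (∀ x ∈ w, S x) → Commute X (ev (fun x => dec f ω (getL As idP x)) w) := fun w hw => by
    induction w with
    | nil => exact Commute.one_right _
    | cons x w ih => exact (ih fun y hy => hw y (.tail _ hy)).mul_right (hX x (hw x (.head _)))
  have c2 : GP (sumW As th) ∧ Commute X (dec f ω (sumW As th)) := by
    clear a1 a2
    induction th with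
    | nil => exact ⟨⟨BP.good_zero, BP.good_zero⟩, by
        rw [show sumW As [] = (0, 0) from rfl, dec_zero, bM_zero, map_zero]; exact Commute.zero_right _⟩
    | cons w th ih =>
      have b1 := ih fun w hw => h1 w (.tail _ hw)
      have b2 := appP_spec f hω hA w gid
      have b3 := addP_spec f ω b2.1 b1.1
      refine ⟨b3.1, ?_⟩
      change Commute X (dec f ω (addP _ (sumW As th)))
      rw [b3.2, b2.2, dec_id, mul_one]
      exact (c1 w (h1 w (.head _))).add_right b1.2
  have b1 := (mulP_spec f hω c2.1 hE).2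
  rw [eqP_spec a1, dec_zero, bM_zero, map_zero] at b1
  have b2 := mulP_spec f hω (okP_spec hT) c2.1
  have b3 := (addP_spec f ω b2.1 hE).2
  rw [eqP_spec a2, dec_id, b2.2] at b3
  have b4 := (mulP_spec f hω hE (q := (1, 0)) (okP_spec (by decide +kernel))).2
  rw [eqP_spec a3, dec_one] at b4
  set c := (X * dec f ω E) i0 i0
  have b5 : X * dec f ω E = c • dec f ω E := by
    have b6 : X * dec f ω E = dec f ω E * (X * dec f ω E) := by
      conv_lhs => rw [← one_mul (X * _), b3, add_mul, mul_assoc, ← mul_assoc _ X, ← c2.2.eq, mul_assoc X, ← b1]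
      simp
    calc _ = dec f ω E * (single i0 i0 1 * (X * dec f ω E) * single i0 i0 1) := by
          rw [mul_assoc, mul_assoc X, ← b4, ← mul_assoc, ← b4, ← b6]
      _ = _ := by
        rw [single_mul_mul_single, one_mul, ← smul_eq_mul (b := (1 : K)), ← smul_single, mul_smul_comm, ← b4]
  have c3 : ∀ Y, GP Y → X * dec f ω Y = c • dec f ω Y →
      GP (spin As l Y) ∧ X * dec f ω (spin As l Y) = c • dec f ω (spin As l Y) := by
    clear a4
    induction l with
    | nil => exact fun Y a b => ⟨a, b⟩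
    | cons s l ih =>
      intro Y hY e
      have d0 := (andB_eq_true _ _).1 hl
      have d1 := appP_spec f hω hA s.1 hY
      have d2 := mulP_spec f hω d1.1 (okP_spec d0.1)
      have d3 := addP_spec f ω hY d2.1
      rw [show spin As (s :: l) Y = spin As l (addP Y (mulP (appP As s.1 Y) (shP s.2))) from frc_eq _ _]
      refine ih (fun s hs => h2 s (.tail _ hs)) d0.2 _ d3.1 ?_
      rw [d3.2, d2.2, d1.2, mul_add, ← mul_assoc, ← mul_assoc, (c1 _ (h2 s (.head _))).eq, mul_assoc _ X, e, smul_add,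
        mul_smul_comm, smul_mul_assoc]
  obtain ⟨d1, d2⟩ := c3 E hE b5
  have d3 := (mulP_spec f hω d1 (okP_spec hZ)).2
  rw [eqP_spec a4, dec_id] at d3
  exact ⟨c, by rw [← mul_one X, d3, ← mul_assoc, d2, smul_mul_assoc]⟩

end Cfsg.Agent.FI.F4M
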