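import Cfsg.Agent.FI.Rk3B
import Cfsg.Agent.S0205
import Cfsg.Agent.S0215

/-! Fischer: a generating class of involutions of rank three consists of 3-transpositions (helper16). -/

set_option autoImplicit false

namespace Cfsg.Agent.FI.Rk3

open Subgroup

variable {G : Type*} [Group G] {D : Set G} {a b x : G}

theorem refl_mem (sq : ∀ a ∈ D, a * a = 1) (cj : ∀ a ∈ D, ∀ g, g * a * g⁻¹ ∈ D) (ha : a ∈ D) (hb : b ∈ D) :
    ∀ k : ℕ, a * (a * b) ^ k ∈ D
  | 0 => by simpa using ha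
  | 1 => by simpa [← mul_assoc, sq a ha] using hb
  | k + 2 => by
    have := cj _ (refl_mem sq cj ha hb k) (a * b)⁻¹
    rw [inv_inv, mul_inv_rev, inv_eq_of_mul_eq_one_left (sq a ha), inv_eq_of_mul_eq_one_left (sq b hb)] at this
    convert this using 1
    rw [pow_succ, pow_succ']
    simp only [← mul_assoc, sq a ha, one_mul, mul_assoc _ a a, mul_one]

theorem comm_of_sq (ha : a * a = 1) (hb : b * b = 1) (h : (a * b) ^ 2 = 1) : Commute a b := by
  change a * b = b * a
  rw [← inv_eq_of_mul_eq_one_left (pow_two (a * b) ▸ h : a * b * (a * b) = 1), mul_inv_rev, inv_eq_of_mul_eq_one_left ha,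
    inv_eq_of_mul_eq_one_left hb]

theorem sq_of_comm (ha : a * a = 1) (hb : b * b = 1) (h : Commute a b) : (a * b) ^ 2 = 1 := by
  rw [h.mul_pow, pow_two, pow_two, ha, hb, one_mul]

theorem main [Finite G] (hsol : ∀ N : Subgroup G, N.Normal → Group.IsSolvable N → N = ⊥)
    (hinv : ∀ d ∈ D, orderOf d = 2) (hconj : ∃ d ∈ D, D = conjugatesOf d) (gen : closure D = ⊤)
    (rk : ∀ x ∈ D, ∃ y z, ∀ w ∈ D, w = x ∨ (∃ g, Commute g x ∧ g * y * g⁻¹ = w) ∨ ∃ g, Commute g x ∧ g * z * g⁻¹ = w) :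
    IsThreeTranspositionClass D := by
  haveI : Fact (Nat.Prime 2) := ⟨Nat.prime_two⟩
  have sq := fun a ha => Invol.mul_self_of (hinv a ha)
  have n1 := fun a ha => Invol.ne_one_of (hinv a ha)
  obtain ⟨d, hd, eD⟩ := hconj
  have cl : ∀ a ∈ D, ∀ b ∈ D, IsConj a b := fun a ha b hb =>
    (show IsConj d a from (eD ▸ ha : a ∈ conjugatesOf d)).symm.trans (eD ▸ hb : b ∈ conjugatesOf d)
  have cj : ∀ a ∈ D, ∀ g, g * a * g⁻¹ ∈ D := fun a ha g =>
    eD ▸ (show IsConj d _ from (cl d hd a ha).trans (isConj_iff.2 ⟨g, rfl⟩))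
  have z : ∀ g, (∀ a ∈ D, Commute g a) → g = 1 := fun g hg => by
    have : closure D ≤ centralizer {g} := (closure_le _).2 fun a ha => mem_centralizer_singleton_iff.2 (hg a ha).symm
    rw [← mem_bot, ← hsol (center G) inferInstance (Group.isSolvable_of_comm fun a b => Subtype.ext (a.2.comm b))]
    exact mem_center_iff.2 fun a => mem_centralizer_singleton_iff.1 (this (gen ▸ mem_top a))
  have p2 : ∀ N : Subgroup G, N.Normal → IsPGroup 2 N → N = ⊥ := fun N hN l => hsol N hN (by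
    have := l.isNilpotent; infer_instance)
  have R : ∀ a ∈ D, ∀ b ∈ D, ∀ k : ℕ, ∃ c ∈ D, a * c = (a * b) ^ k := fun a ha b hb k =>
    ⟨_, refl_mem sq cj ha hb k, by rw [← mul_assoc, sq a ha, one_mul]⟩
  have hB : ∀ x ∈ D, ∃ t ∈ D, ¬ Commute x t := fun x hx => by
    by_contra l; push Not at l; exact n1 x hx (z x l)
  have hA : ∀ x ∈ D, ∃ s ∈ D, s ≠ x ∧ Commute x s := fun x hx => by
    by_contra l
    push Not at l
    obtain ⟨P, hP⟩ := (IsPGroup.of_card (p := 2) (n := 1) (G := zpowers x)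
      (by rw [Nat.card_zpowers, hinv x hx]; rfl)).exists_le_sylow
    have xP := hP (mem_zpowers x)
    obtain ⟨N, hN, o, k⟩ := S0215.result P x (hinv x hx) xP fun g hg => by
      by_contra ne
      obtain ⟨n, hn⟩ := P.isPGroup' ⟨_, mul_mem xP hg⟩
      obtain ⟨j, -, hj⟩ := (Nat.dvd_prime_pow Nat.prime_two).1
        (orderOf_dvd_of_pow_eq_one (congrArg Subtype.val hn : (x * (g * x * g⁻¹)) ^ 2 ^ n = 1))
      rcases j with _ | j
      · exact ne (mul_left_cancel ((orderOf_eq_one_iff.1 hj).trans (sq x hx).symm))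
      obtain ⟨c, hc, e⟩ := R x hx _ (cj x hx g) (2 ^ j)
      refine l c hc (fun l' => ?_) (comm_of_sq (sq x hx) (sq c hc) (by
        rw [e, ← pow_mul, ← pow_succ, ← hj, pow_orderOf_eq_one]))
      rw [l', sq x hx] at e
      have := Nat.le_of_dvd (by positivity) (hj ▸ orderOf_dvd_of_pow_eq_one e.symm)
      rw [pow_succ] at this
      have : 0 < 2 ^ j := by positivity
      omega
    rw [hsol N hN (S0205.result o)] at k
    exact n1 x hx (z x fun a _ => mul_inv_eq_iff_eq_mul.1 (mul_inv_eq_one.1 (mem_bot.1 (k a))))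
  have orb : ∀ x ∈ D, ∀ a ∈ D, ∀ b ∈ D, a ≠ x → b ≠ x → (Commute x a ↔ Commute x b) →
      ∃ g, Commute g x ∧ g * a * g⁻¹ = b := fun x hx a ha b hb ax bx k => by
    obtain ⟨y, w, H⟩ := rk x hx
    have c : ∀ {u v : G}, (∃ g, Commute g x ∧ g * u * g⁻¹ = v) → (Commute x u ↔ Commute x v) := by
      rintro u _ ⟨g, hg, rfl⟩
      conv_rhs => rw [← mul_inv_cancel_right x g, ← hg.eq]
      exact (Commute.conj_iff g).symm
    have j : ∀ {u : G}, (∃ g, Commute g x ∧ g * u * g⁻¹ = a) → (∃ g, Commute g x ∧ g * u * g⁻¹ = b) →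
        ∃ g, Commute g x ∧ g * a * g⁻¹ = b := by
      rintro u ⟨g, hg, rfl⟩ ⟨g', hg', rfl⟩
      exact ⟨g' * g⁻¹, hg'.mul_left hg.inv_left, by group⟩
    obtain ⟨s, hs, sx, xs⟩ := hA x hx
    obtain ⟨t, ht, xt⟩ := hB x hx
    have yw : ¬ (Commute x y ↔ Commute x w) := fun l => by
      have h1 : Commute x y := ((H s hs).resolve_left sx).elim (fun m => (c m).2 xs) fun m => l.2 ((c m).2 xs)
      exact xt (((H t ht).resolve_left fun m => xt (m ▸ Commute.refl x)).elim (fun m => (c m).1 h1)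
        fun m => (c m).1 (l.1 h1))
    rcases (H a ha).resolve_left ax with l | l <;> rcases (H b hb).resolve_left bx with l' | l'
    exacts [j l l', absurd (((c l).trans k).trans (c l').symm) yw,
      absurd (((c l').trans k.symm).trans (c l).symm) yw, j l l']
  have tB : ∀ x ∈ D, ∀ y ∈ D, ∀ y' ∈ D, ¬ Commute x y → ¬ Commute x y' → ∃ g, Commute g x ∧ g * y * g⁻¹ = y' :=
    fun x hx y hy y' hy' k k' => orb x hx y hy y' hy' (fun l => k (l ▸ Commute.refl x)) (fun l => k' (l ▸ Commute.refl x))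
      (iff_of_false k k')
  obtain ⟨e, he, de⟩ := hB d hd
  have hn : ∀ a ∈ D, ∀ b ∈ D, ¬ Commute a b → orderOf (a * b) = orderOf (d * e) := fun a ha b hb k => by
    obtain ⟨g, rfl⟩ := isConj_iff.1 (cl a ha d hd)
    obtain ⟨g', k1, k2⟩ := tB _ hd _ (cj b hb g) e he (fun l => k ((Commute.conj_iff g).1 l)) de
    rw [← k2, ← Root.orderOf_conj' (g' * g) (a * b)]
    congr 1
    conv_rhs => rw [← mul_inv_cancel_right (g * a * g⁻¹) g', ← k1.eq]
    group
  have pw : ∀ k : ℕ, ((d * e) ^ k) ^ 2 = 1 ∨ orderOf ((d * e) ^ k) = orderOf (d * e) := fun k => by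
    obtain ⟨c, hc, l⟩ := R d hd e he k
    rw [← l]
    by_cases m : Commute d c
    exacts [.inl (sq_of_comm (sq d hd) (sq c hc) m), .inr (hn d hd c hc m)]
  have pos := orderOf_pos (d * e)
  have od : ¬ 2 ∣ orderOf (d * e) := fun l => by
    have h4 : (d * e) ^ 4 = 1 := by
      rcases pw 2 with m | m
      · rwa [← pow_mul] at m
      · rw [orderOf_pow_of_dvd two_ne_zero l] at m; omega
    have := p2 ⊤ inferInstance (gen ▸ Root.isPGroup_closure_of_four sq (fun x hx y hy => by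
      simpa [inv_eq_of_mul_eq_one_left (sq y hy)] using cj x hx y) fun x hx y hy => by
        by_cases m : Commute x y
        · rw [show 4 = 2 * 2 from rfl, pow_mul, sq_of_comm (sq x hx) (sq y hy) m, one_pow]
        · rw [← orderOf_dvd_iff_pow_eq_one, hn x hx y hy m, orderOf_dvd_iff_pow_eq_one, h4])
    exact n1 d hd (mem_bot.1 (this ▸ mem_top d))
  have pr : (orderOf (d * e)).Prime := by
    have h1 : orderOf (d * e) ≠ 1 := fun l => de (comm_of_sq (sq d hd) (sq e he) (by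
      rw [orderOf_eq_one_iff.1 l, one_pow]))
    have pm := Nat.minFac_prime h1
    have o := orderOf_pow_orderOf_div pos.ne' (Nat.minFac_dvd (orderOf (d * e)))
    rcases pw (orderOf (d * e) / (orderOf (d * e)).minFac) with m | m
    · rw [← orderOf_dvd_iff_pow_eq_one, o] at m
      exact absurd ((Nat.prime_dvd_prime_iff_eq pm Nat.prime_two).1 m ▸ Nat.minFac_dvd _) od
    · exact (o.symm.trans m) ▸ pm
  have h : PT (orderOf (d * e)) D := ⟨pr, fun l => od (l ▸ dvd_rfl), sq, cj, fun a ha b hb k => by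
    rw [← hn a ha b hb k, pow_orderOf_eq_one]⟩
  by_cases p3 : orderOf (d * e) = 3
  · refine ⟨⟨hinv, fun a ha b hb => ?_⟩, ⟨d, hd, eD⟩, gen⟩
    by_cases m : Commute a b
    exacts [.inl (sq_of_comm (sq a ha) (sq b hb) m), .inr (p3 ▸ h.ord a ha b hb m)]
  obtain ⟨N, hN, k1, k2⟩ := h.kernel n1 gen (fun a ha b hb c hc => h.trans n1 p3 gen cl
    (fun x hx y hy y' hy' l l' k k' => orb x hx y hy y' hy' l l' (iff_of_true k k')) tB ha hb hc) ⟨d, hd, e, he, de⟩
  obtain ⟨s, hs, sd, ds⟩ := hA d hd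
  refine absurd (mul_left_cancel ((z _ fun a ha => ?_).trans (sq d hd).symm)) sd
  have := Root.RI.comm_mem_pCore (h.ri n1 gen) ha (fun n hn l => l.not_comm (sq a ha) (sq _ (cj a ha n)) (k2 a ha n hn))
    (k1 d hd s hs ds)
  rw [p2 _ inferInstance (Solv.isPGroup_pCore 2 G), mem_bot] at this
  exact mul_inv_eq_iff_eq_mul.1 (mul_right_cancel (this.trans (sq a ha).symm))

end Cfsg.Agent.FI.Rk3
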