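import Cfsg.Agent.Root.Inv2
import Cfsg.Agent.Rank1.Basic

/-! `p`-transpositions (helper16): sets of involutions with products of order `1`, `2` or `p`.  No group of rank one
in characteristic two has all its involutions of this kind (`PT.rank_one`). -/

set_option autoImplicit false

namespace Cfsg.Agent.FI.Rk3

open Subgroup MulAction

variable {G : Type*} [Group G] {D : Set G} {p : ℕ} {a b c d e x y z u : G}

structure PT (p : ℕ) (D : Set G) : Prop where
  pp : p.Prime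
  p2 : p ≠ 2
  sq : ∀ a ∈ D, a * a = 1
  conj : ∀ a ∈ D, ∀ g, g * a * g⁻¹ ∈ D
  ord : ∀ a ∈ D, ∀ b ∈ D, ¬ Commute a b → (a * b) ^ p = 1

theorem exists_root (hp : p.Prime) (hx : x ^ p = 1) {k : ℕ} (hk : ¬ p ∣ k) : ∃ n, (x ^ k) ^ n = x :=
  exists_pow_eq_self_of_coprime (Nat.Coprime.coprime_dvd_right (orderOf_dvd_of_pow_eq_one hx)
    ((Nat.Prime.coprime_iff_not_dvd hp).2 hk).symm)

theorem comm_root (hp : p.Prime) (hx : x ^ p = 1) {k : ℕ} (hk : ¬ p ∣ k) (h : Commute z (x ^ k)) : Commute z x := by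
  obtain ⟨n, hn⟩ := exists_root hp hx hk
  exact hn ▸ h.pow_right n

theorem comm_tri (ha : a * a = 1) : Commute (a * x * a) (a * y * a) ↔ Commute x y := by
  have i := inv_eq_of_mul_eq_one_left ha
  have := Commute.conj_iff (a := x) (b := y) a
  rwa [i] at this

theorem comm_tri' (ha : a * a = 1) : Commute x (a * y * a) ↔ Commute (a * x * a) y := by
  rw [← comm_tri (a := a) ha]
  simp only [← mul_assoc, ha, one_mul, mul_assoc _ a a, mul_one]

theorem tri_eq (ha : a * a = 1) : a * x * a = x ↔ Commute x a := by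
  constructor
  · intro h
    change _ = _
    conv_lhs => rw [← h, mul_assoc, ha, mul_one]
  · intro h; rw [← h.eq, mul_assoc, ha, mul_one]

namespace PT
variable (h : PT p D)
include h

theorem nd2 : ¬ p ∣ 2 := fun k => h.p2 ((Nat.prime_dvd_prime_iff_eq h.pp Nat.prime_two).1 k)

theorem nd4 : ¬ p ∣ 4 := fun k => h.nd2 (h.pp.dvd_of_dvd_pow (n := 2) k)

theorem inv (ha : a ∈ D) : a⁻¹ = a := inv_eq_of_mul_eq_one_left (h.sq a ha)

theorem tri (ha : a ∈ D) (hb : b ∈ D) : a * b * a ∈ D := by simpa [h.inv ha] using h.conj b hb a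

theorem odd (hx : x ^ p = 1) : Odd (orderOf x) := (h.pp.odd_of_ne_two h.p2).of_dvd_nat (orderOf_dvd_of_pow_eq_one hx)

theorem od (ha : a ∈ D) (hb : b ∈ D) (k : ¬ Commute a b) : Root.Od a b :=
  ⟨fun e => k (e ▸ Commute.refl a), h.odd (h.ord a ha b hb k)⟩

/-- A member commuting with a product commutes with the factors. -/
theorem sl (hx : x ∈ D) (hd : d ∈ D) (he : e ∈ D) (k : Commute x (d * e)) : d = e ∨ (Commute x d ∧ Commute x e) := by
  have e1 : d * x * d = e * x * e := by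
    calc d * x * d = d * (x * (d * e)) * e := by simp only [mul_assoc, h.sq e he, mul_one]
      _ = e * x * e := by rw [k.eq]; simp only [← mul_assoc, h.sq d hd, one_mul]
  by_cases k1 : Commute x d
  · exact .inr ⟨k1, (tri_eq (h.sq e he)).1 (e1 ▸ (tri_eq (h.sq d hd)).2 k1)⟩
  by_cases k2 : Commute x e
  · exact absurd ((tri_eq (h.sq d hd)).1 (e1 ▸ (tri_eq (h.sq e he)).2 k2)) k1
  obtain ⟨j, hj⟩ := h.pp.odd_of_ne_two h.p2
  have r : ∀ g : G, g ^ p = 1 → (g * g) ^ (j + 1) = g := fun g hg => by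
    rw [← pow_two, ← pow_mul, show 2 * (j + 1) = p + 1 by omega, pow_succ, hg, one_mul]
  left
  apply mul_left_cancel (a := x)
  rw [← r _ (h.ord x hx d hd k1), ← r _ (h.ord x hx e he k2)]
  congr 1
  simp only [mul_assoc] at e1 ⊢
  rw [e1]

/-- The midpoint. -/
theorem mid (ha : a ∈ D) (hb : b ∈ D) (k : ¬ Commute a b) : ∃ m ∈ D, m * a * m = b := by
  obtain ⟨n, hn⟩ := exists_root h.pp (h.ord b hb a ha fun l => k l.symm) h.nd4
  refine ⟨_, h.conj a ha ((b * a) ^ n), ?_⟩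
  have e1 : a * ((b * a) ^ n)⁻¹ = (b * a) ^ n * a := by
    rw [← inv_pow, mul_inv_rev, h.inv ha, h.inv hb]
    have : a * (a * b) = b * a * a := by rw [← mul_assoc, h.sq a ha, one_mul, mul_assoc, h.sq a ha, mul_one]
    exact (SemiconjBy.pow_right this n).eq
  rw [← pow_mul, mul_comm, pow_mul] at hn
  generalize (b * a) ^ n = s at *
  calc s * a * s⁻¹ * a * (s * a * s⁻¹) = s * (a * s⁻¹) * a * s * (a * s⁻¹) := by group
    _ = s ^ 4 * a := by rw [e1, mul_assoc s, mul_assoc s, mul_assoc s a a, h.sq a ha]; simp [pow_succ, mul_assoc]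
    _ = b := by rw [hn, mul_assoc, h.sq a ha, mul_one]

theorem dih (hu : u * u = 1) (hz : z ∈ D) (k : ¬ Commute (u * z * u) z) : ∃ n ∈ D, Commute n u ∧ Commute (u * n) z := by
  have m : u * z * u ∈ D := by simpa [inv_eq_of_mul_eq_one_left hu] using h.conj z hz u
  obtain ⟨g, hg⟩ := Root.dih hu (h.sq z hz) (by simpa [mul_assoc] using h.odd (h.ord _ m z hz k))
  exact ⟨_, h.conj z hz g, hg⟩

/-- Commuting with two points of a line. -/
theorem line (ha : a ∈ D) (hb : b ∈ D) (k : ¬ Commute a b) (h1 : Commute z a) (h2 : Commute z (b * a * b)) :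
    Commute z b := (h.od ha hb k).commute (h.sq a ha) h1 h2

omit h in
theorem fix_card {Ω : Type*} [MulAction G Ω] [Finite Ω] (hp : p.Prime) (hx : x ^ p = 1) :
    Nat.card Ω ≡ Nat.card {ω : Ω // x • ω = ω} [MOD p] := by
  haveI : Fact p.Prime := ⟨hp⟩
  have P : IsPGroup p (zpowers x) := fun ⟨g, n, hn⟩ => ⟨1, Subtype.ext (by
    change g ^ p ^ 1 = 1
    rw [← hn, pow_one, ← zpow_natCast, ← zpow_mul, mul_comm, zpow_mul, zpow_natCast, hx, one_zpow])⟩
  refine (P.card_modEq_card_fixedPoints Ω).trans (Nat.ModEq.refl _ |>.trans ?_)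
  rw [Nat.card_congr (Equiv.subtypeEquivRight (q := fun ω => x • ω = ω) fun ω => ?_)]
  exact ⟨fun k => k ⟨x, mem_zpowers x⟩, fun k g => (zpowers_le (H := stabilizer G ω)).2 k g.2⟩

theorem rank_one [Finite G] {Ω : Type*} [MulAction G Ω] [Finite Ω]
    (loc : ∀ s, orderOf s = 2 → s ∈ D)
    (uq : ∀ s ∈ D, ∀ ω ω' : Ω, s • ω = ω → s • ω' = ω' → ω = ω')
    (ex : ∀ s ∈ D, ∃ ω : Ω, s • ω = ω)
    (cm : ∀ s ∈ D, ∀ s' ∈ D, ∀ ω : Ω, s • ω = ω → s' • ω = ω → Commute s s')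
    (sj : ∀ ω : Ω, ∃ s ∈ D, s • ω = ω)
    (hQ : ∀ ω : Ω, ∃ t Q, IsRankOneSetup G Ω ω t Q ∧ IsPGroup 2 Q)
    (ha : a ∈ D) (hc : c ∈ D) (ac : Commute a c) (ne : a ≠ c) : False := by
  have fx : ∀ s ∈ D, ∀ g, Commute g s → ∀ ω : Ω, s • ω = ω → g • ω = ω := fun s hs g k ω e =>
    uq s hs _ _ (by rw [← mul_smul, ← k.eq, mul_smul, e]) e
  have iv : ∀ s ∈ D, ∀ ω ω' : Ω, s • ω = ω' → s • ω' = ω := fun s hs ω ω' e => by
    rw [← e, ← mul_smul, h.sq s hs, one_smul]
  -- at most two fixed points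
  have two : ∀ d ∈ D, ∀ e ∈ D, ¬ Commute d e → ∀ ω ω₁ ω₂ : Ω, (d * e) • ω = ω → (d * e) • ω₁ = ω₁ →
      (d * e) • ω₂ = ω₂ → ω₁ ≠ ω → ω₂ ≠ ω → ω₁ = ω₂ := fun d hd e he k ω ω₁ ω₂ f f1 f2 n1 n2 => by
    obtain ⟨t, Q, hS, h2⟩ := hQ ω
    obtain ⟨q, hq, rfl⟩ := Rank1.Setup.exists_Q hS n1 n2
    by_cases q1 : q = 1
    · rw [q1, one_smul]
    have c1 : d * e * q * (d * e)⁻¹ = q := Rank1.Setup.eq_of_smul hS (Rank1.Setup.conj_mem_Q hS f hq) hq n1 (by
      rw [mul_smul, mul_smul, inv_smul_eq_iff.2 f1.symm, f2])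
    obtain ⟨n, hn⟩ := h2 ⟨q, hq⟩
    have ev : Even (Nat.card (zpowers q)) := by
      rw [Nat.card_zpowers]
      obtain ⟨j, -, hj⟩ := (Nat.dvd_prime_pow Nat.prime_two).1
        (orderOf_dvd_of_pow_eq_one (congrArg Subtype.val hn : q ^ 2 ^ n = 1))
      rcases j with _ | j
      · exact absurd (orderOf_eq_one_iff.1 hj) q1
      · exact hj ▸ ⟨2 ^ j, by ring⟩
    obtain ⟨_, ⟨i, rfl⟩, hs⟩ := Invol.exists_invol_mem_of_even ev
    have hx := loc _ hs
    rcases h.sl hx hd he ((show Commute (d * e) q from mul_inv_eq_iff_eq_mul.1 c1).zpow_right i).symm with l | l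
    · exact absurd (l ▸ Commute.refl d) k
    · obtain ⟨o, ho⟩ := ex _ hx
      exact absurd (cm d hd e he o (fx _ hx d l.1.symm o ho) (fx _ hx e l.2.symm o ho)) k
  -- a product with two fixed points
  obtain ⟨ω, hω⟩ := ex a ha
  have cω := fx a ha c ac.symm ω hω
  obtain ⟨t, Q, hS, -⟩ := hQ ω
  obtain ⟨b, hb, bω⟩ := sj (t • ω)
  have nω := Rank1.Setup.t_smul_ne hS
  generalize t • ω = ω' at bω nω
  have nc : ∀ s ∈ D, s • ω = ω → ¬ Commute s b := fun s hs e k => nω (uq s hs _ _ (fx b hb s k _ bω) e)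
  have mv : ∀ s ∈ D, s • ω = ω → ∀ m ∈ D, m * s * m = b → m • ω = ω' := fun s hs e m hm k =>
    uq b hb _ _ (by rw [← k, mul_smul, mul_smul, iv m hm _ _ rfl, e]) bω
  obtain ⟨d, hd, e1⟩ := h.mid ha hb (nc a ha hω)
  obtain ⟨e, he, e2⟩ := h.mid hc hb (nc c hc cω)
  have d1 := mv a ha hω d hd e1
  have d2 := mv c hc cω e he e2
  have f1 : (d * e) • ω = ω := by rw [mul_smul, d2, iv d hd _ _ d1]
  have f2 : (d * e) • ω' = ω' := by rw [mul_smul, iv e he _ _ d2, d1]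
  have de : ¬ Commute d e := fun k => by
    by_cases l : d * e = 1
    · have : d = e := mul_right_cancel (l.trans (h.sq e he).symm)
      subst this
      exact ne (mul_left_cancel (mul_right_cancel (e1.trans e2.symm)))
    · exact nω (uq _ (loc _ (Invol.orderOf_two_iff.2 ⟨by
        rw [mul_assoc, ← mul_assoc e, ← k.eq, mul_assoc, h.sq e he, mul_one, h.sq d hd], l⟩)) _ _ f2 f1)
  have c2 : Nat.card {o : Ω // (d * e) • o = o} = 2 := Nat.card_eq_two_iff.2 ⟨⟨ω, f1⟩, ⟨ω', f2⟩,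
    fun l => nω (congrArg Subtype.val l).symm, Set.eq_univ_of_forall fun o => by
      by_cases l : o.1 = ω
      · exact .inl (Subtype.ext l)
      · exact .inr (Subtype.ext (two d hd e he de ω _ _ f1 o.2 f2 l nω))⟩
  have m1 := fix_card (Ω := Ω) h.pp (h.ord d hd e he de)
  rw [c2] at m1
  -- every product has a fixed point
  have al : ∀ y : {y // y ∈ D ∧ ¬ Commute b y}, ∃ o : Ω, (b * y) • o = o := fun y => by
    by_contra l
    have m2 := fix_card (Ω := Ω) h.pp (h.ord b hb y y.2.1 y.2.2)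
    haveI : IsEmpty {o : Ω // (b * y) • o = o} := ⟨fun o => l ⟨_, o.2⟩⟩
    rw [Nat.card_of_isEmpty (α := {o : Ω // (b * y) • o = o})] at m2
    exact h.nd2 ((Nat.modEq_zero_iff_dvd).1 (m1.symm.trans m2))
  choose o ho using al
  choose s hs so using sj
  have n1 : ∀ y, ¬ b • o y = o y := fun y l => y.2.2 (cm b hb y y.2.1 _ l (by
    have := ho y
    rw [mul_smul] at this
    exact smul_left_cancel b (this.trans l.symm)))
  have f3 : ∀ y : {y // y ∈ D ∧ ¬ Commute b y}, (b * y * s (o y) * (b * y)⁻¹) • o y = o y := fun y => by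
    rw [mul_smul, mul_smul, inv_smul_eq_iff.2 (ho y).symm, so, ho]
  let ψ : {y // y ∈ D ∧ ¬ Commute b y} → {y // y ∈ D ∧ ¬ Commute b y} := fun y =>
    ⟨b * y * s (o y) * (b * y)⁻¹, h.conj _ (hs _) _, fun k => n1 y (fx _ (h.conj _ (hs _) _) b k _ (f3 y))⟩
  have inj : Function.Injective ψ := fun y y' l => by
    have l1 : b * y * s (o y) * (b * y)⁻¹ = b * y' * s (o y') * (b * y')⁻¹ := congrArg Subtype.val l
    have l2 : o y = o y' := uq _ (ψ y).2.1 _ _ (f3 y) (by rw [l]; exact f3 y')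
    rw [← l2] at l1
    have l3 : Commute (s (o y)) (y'.1 * y) := by
      have : (y'.1 * y) * s (o y) * (y'.1 * y)⁻¹ = s (o y) := by
        calc _ = (b * y')⁻¹ * (b * y * s (o y) * (b * y)⁻¹) * (b * y') := by
              conv_lhs => rw [← h.inv y'.2.1]
              group
          _ = _ := by rw [l1]; group
      exact (show Commute _ _ from mul_inv_eq_iff_eq_mul.1 this).symm
    rcases h.sl (hs _) y'.2.1 y.2.1 l3 with k | k
    · exact Subtype.ext k.symm
    · refine absurd ?_ (n1 y)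
      have := ho y
      rwa [mul_smul, fx _ (hs _) _ k.2.symm _ (so _)] at this
  obtain ⟨y, hy⟩ := Finite.surjective_of_injective inj ⟨s ω, hs ω, fun k => nc _ (hs ω) (so ω) k.symm⟩
  have l1 : b * y * s (o y) * (b * y)⁻¹ = s ω := congrArg Subtype.val hy
  have l2 : o y = ω := uq _ (hs ω) _ _ (l1 ▸ f3 y) (so ω)
  rw [l2] at l1
  rcases h.sl (hs ω) hb y.2.1 (show Commute _ _ from mul_inv_eq_iff_eq_mul.1 l1).symm with k | k
  · exact y.2.2 (k ▸ Commute.refl b)
  · exact nc _ (hs ω) (so ω) k.1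

end PT

end Cfsg.Agent.FI.Rk3
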