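import Cfsg.Agent.FI.Rk3A
import Cfsg.Agent.Fischer.Basic

/-! `p`-transpositions (helper16): the doubling map preserves commuting (`PT.good`); for `p ≥ 5` and rank three
commuting is an equivalence relation (`PT.trans`). -/

set_option autoImplicit false

namespace Cfsg.Agent.FI.Rk3

open Subgroup MulAction Root

variable {G : Type*} [Group G] {D : Set G} {p : ℕ} {a b c d e m w x y z u : G}

namespace PT
variable (h : PT p D)
include h

theorem blk [Finite G] {Ω : Type*} [MulAction G Ω] {β : G → Ω} (k : Blk D β)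
    (hc : ∀ a ∈ D, ∀ b ∈ D, β a = β b → Commute a b) (ha : a ∈ D) (hb : b ∈ D) (ab : Commute a b) :
    im Ω (a * b) = 1 := by
  by_contra ne
  haveI : Finite Ω := Finite.of_surjective β fun ω => (k.surj ω).imp fun _ l => l.2
  have ne' : im Ω a ≠ im Ω b := fun l => ne (by rw [map_mul, l, ← map_mul, h.sq b hb, map_one])
  have h' : PT p (im Ω '' D) := ⟨h.pp, h.p2, fun s hs => Invol.mul_self_of (k.pc.two s hs), k.pc.conj, by
    rintro _ ⟨x, hx, rfl⟩ _ ⟨y, hy, rfl⟩ l
    rw [← map_mul, ← map_pow, h.ord x hx y hy fun l' => l (l'.map _), map_one]⟩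
  refine h'.rank_one (Ω := Ω) (fun s => k.loc) k.pc.uniq k.pc.ex ?_ (fun ω => ?_) (fun ω => ?_) ⟨a, ha, rfl⟩ ⟨b, hb, rfl⟩
    (ab.map _) ne'
  · rintro _ ⟨x, hx, rfl⟩ _ ⟨y, hy, rfl⟩ ω e1 e2
    exact (hc x hx y hy ((k.uniq hx e1).symm.trans (k.uniq hy e2))).map _
  · obtain ⟨d, hd, rfl⟩ := k.surj ω
    exact ⟨_, ⟨d, hd, rfl⟩, k.fix hd (Commute.refl d)⟩
  · obtain ⟨-, t, Q, l⟩ := k.hyp ⟨_, trivial, _, trivial, k.two_im ha, k.two_im hb, ne', ab.map _⟩ ω
    exact ⟨t, Q, l.setup, l.suzuki.1⟩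

theorem ri (n1 : ∀ a ∈ D, a ≠ 1) (gen : closure D = ⊤) : IsRootInvolutionSet D :=
  ⟨fun a ha => Invol.orderOf_two_iff.2 ⟨h.sq a ha, n1 a ha⟩, gen, h.conj, fun a ha b hb => by
    by_cases k : Commute a b
    exacts [.inl k, .inr (.inl (h.od ha hb k).2)]⟩

/-- If commuting is an equivalence relation, products of commuting members lie in the kernel on the classes. -/
theorem kernel [Finite G] (n1 : ∀ a ∈ D, a ≠ 1) (gen : closure D = ⊤)
    (tr : ∀ a ∈ D, ∀ b ∈ D, ∀ c ∈ D, Commute a b → Commute b c → Commute a c) (nc : ∃ a ∈ D, ∃ b ∈ D, ¬ Commute a b) :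
    ∃ N : Subgroup G, N.Normal ∧ (∀ a ∈ D, ∀ b ∈ D, Commute a b → a * b ∈ N) ∧
      ∀ d ∈ D, ∀ n ∈ N, Commute d (n * d * n⁻¹) := by
  have R : ∀ a ∈ D, ∀ b ∈ D, (a = b ∨ a ∈ D ∧ b ∈ D ∧ Commute a b) ↔ Commute a b := fun a ha b hb =>
    ⟨fun l => l.elim (fun l => l ▸ Commute.refl a) (·.2.2), fun l => .inr ⟨ha, hb, l⟩⟩
  obtain ⟨H, β, k, hβ⟩ := exists_blk (h.ri n1 gen) (R := fun a b => a = b ∨ a ∈ D ∧ b ∈ D ∧ Commute a b)
    (fun _ => .inl rfl) (fun _ _ => .imp .symm fun l => ⟨l.2.1, l.1, l.2.2.symm⟩)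
    (by
      rintro a b c (rfl | l) l'
      · exact l'
      rcases l' with rfl | l'
      exacts [.inr l, .inr ⟨l.1, l'.2.1, tr a l.1 b l.2.1 c l'.2.1 l.2.2 l'.2.2⟩])
    (fun a b g => .imp (fun l => l ▸ rfl) fun l => ⟨h.conj a l.1 g, h.conj b l.2.1 g, l.2.2.conj g⟩)
    (fun a ha b hb l => h.od ha hb fun l' => l ((R a ha b hb).2 l'))
    (let ⟨a, ha, b, hb, l⟩ := nc; ⟨a, ha, b, hb, fun l' => l ((R a ha b hb).1 l')⟩)
  have hc := fun a ha b hb l => (R a ha b hb).1 ((hβ a ha b hb).1 l)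
  refine ⟨(im (G ⧸ H)).ker, inferInstance, fun a ha b hb => h.blk k hc ha hb, fun d hd n hn =>
    hc d hd _ (h.conj d hd n) ?_⟩
  rw [k.equi d hd, im_eq_one.1 hn]

theorem dih2 (hc : c ∈ D) (hx : x ∈ D) (hz : z ∈ D) (cx : Commute c x) (k : ¬ Commute (c * z * c) (x * z * x)) :
    ∃ n ∈ D, Commute n c ∧ Commute n x ∧ Commute (c * x * n) z := by
  obtain ⟨n, hn, k1, k2⟩ := h.dih (u := c * x) (by
    rw [mul_assoc, ← mul_assoc x, ← cx.eq, mul_assoc, h.sq x hx, mul_one, h.sq c hc]) hz fun l => k (by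
      rw [← comm_tri' (h.sq c hc)]
      have : c * x * z * (c * x) = c * (x * z * x) * c := by rw [cx.eq]; simp only [← mul_assoc, cx.eq]
      exact (this ▸ l).symm)
  rcases h.sl hn hc hx k1 with l | l
  · exact absurd (l ▸ Commute.refl _) k
  · exact ⟨n, hn, l.1, l.2, k2⟩

theorem bad_aux [Finite G] (n1 : ∀ a ∈ D, a ≠ 1) (gen : closure D = ⊤) (cl : ∀ a ∈ D, IsConj z a)
    (hx : x ∈ D) (hy : y ∈ D) (hm : m ∈ D) (hz : z ∈ D) (xy : Commute x y) (mx : Commute m x) (my : Commute m y)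
    (zx : ¬ Commute z x) (zy : ¬ Commute z y) (zm : ¬ Commute z m) (v : Commute (x * y * m) z)
    (ce : ∀ g, Commute g x → Commute g y → Commute g m → Commute g z → ∀ a, Commute a g) : False := by
  have vc := ce _ (((Commute.refl x).mul_left xy.symm).mul_left mx) ((xy.mul_left (Commute.refl y)).mul_left my)
    ((mx.symm.mul_left my.symm).mul_left (Commute.refl m)) v
  have E1 : ∀ a ∈ D, Commute a x → Commute a y ∧ Commute a m := fun a ha k =>
    (h.sl ha hy hm (by simpa only [← mul_assoc, h.sq x hx, one_mul] using k.mul_right (vc a))).resolve_left fun l =>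
      zx (by simpa only [← l, mul_assoc, h.sq y hy, mul_one] using vc z)
  have E2 : ∀ a ∈ D, Commute a y → Commute a x := fun a ha k =>
    ((h.sl ha hx hm (by simpa only [xy.eq, ← mul_assoc, h.sq y hy, one_mul] using k.mul_right (vc a))).resolve_left
      fun l => zy (by simpa only [← l, xy.eq, mul_assoc, h.sq x hx, mul_one] using vc z)).1
  have zz : x * y * z * (x * y)⁻¹ = m * z * m := by
    calc _ = x * y * m * (m * z * m) * (x * y * m)⁻¹ := by
          simp only [mul_inv_rev, h.inv hm, mul_assoc, h.sq m hm, ← mul_assoc m m, one_mul]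
      _ = _ := by rw [← (vc _).eq, mul_inv_cancel_right]
  have key : ∀ c ∈ D, Commute c x → ∀ a ∈ D, Commute a x → Commute a c := fun c hc cx a ha ax => by
    have bad : ∀ t ∈ D, ¬ Commute z t → Commute t x → (∀ a ∈ D, Commute a t → Commute a x) →
        Commute c t → Commute a t → ¬ Commute (c * z * c) (t * z * t) → Commute a c := fun t ht zt tx E ct at' k => by
      obtain ⟨n, hn, nc, nt, k2⟩ := h.dih2 hc ht hz ct k
      have nx := E n hn nt
      have wc := ce _ ((cx.mul_left tx).mul_left nx) (((E1 c hc cx).1.mul_left (E1 t ht tx).1).mul_left (E1 n hn nx).1)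
        (((E1 c hc cx).2.mul_left (E1 t ht tx).2).mul_left (E1 n hn nx).2) k2
      exact ((h.sl ha hc hn (by
        simpa only [ct.eq, ← mul_assoc, h.sq t ht, one_mul] using at'.mul_right (wc a))).resolve_left fun l =>
          zt (by simpa only [← l, ct.eq, mul_assoc, h.sq c hc, mul_one] using wc z)).1
    by_cases g1 : Commute (c * z * c) (x * z * x)
    swap
    · exact bad x hx zx (Commute.refl x) (fun _ _ l => l) cx ax g1
    by_cases g2 : Commute (c * z * c) (y * z * y)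
    swap
    · exact bad y hy zy xy.symm E2 (E1 c hc cx).1 (E1 a ha ax).1 g2
    have e1 : y * z * y = m * (x * z * x) * m := by
      calc y * z * y = x * (x * y * z * (x * y)⁻¹) * x := by
            simp only [mul_inv_rev, h.inv hx, h.inv hy, mul_assoc, h.sq x hx, ← mul_assoc x x, one_mul, mul_one]
        _ = _ := by rw [zz]; simp only [← mul_assoc, mx.eq]; rw [mul_assoc _ m x, mx.eq, ← mul_assoc]
    have := h.line (h.tri hx hz) hm (fun l => zm (by
      rwa [← comm_tri' (h.sq x hx), (tri_eq (h.sq x hx)).2 mx] at l)) g1 (e1 ▸ g2)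
    rw [← comm_tri' (h.sq c hc), (tri_eq (h.sq c hc)).2 (E1 c hc cx).2.symm] at this
    exact absurd this zm
  obtain ⟨N, -, k1, k2⟩ := h.kernel n1 gen (fun a ha b hb c hc ab bc => by
    obtain ⟨g, rfl⟩ := isConj_iff.1 ((cl b hb).symm.trans (cl x hx))
    exact (Commute.conj_iff g).1 (key _ (h.conj c hc g) (bc.symm.conj g) _ (h.conj a ha g) (ab.conj g)))
    ⟨z, hz, x, hx, zx⟩
  exact zm (h.line hz hm zm (Commute.refl z) (zz ▸ k2 z hz _ (k1 x hx y hy xy)))

theorem good [Finite G] (n1 : ∀ a ∈ D, a ≠ 1) (hx : x ∈ D) (hy : y ∈ D) (hz : z ∈ D) (xy : Commute x y)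
    (zx : ¬ Commute z x) (zy : ¬ Commute z y) : Commute (x * z * x) (y * z * y) := by
  by_contra k
  obtain ⟨m, hm, mx, my, v⟩ := h.dih2 hx hy hz xy k
  have zm : ¬ Commute z m := fun l => by
    rcases h.sl hz hx hy (by simpa only [mul_assoc, h.sq m hm, mul_one] using v.symm.mul_right l) with l | l
    exacts [k (l ▸ Commute.refl _), zx l.1]
  let K := closure {x, y, m, z}
  let z' : K := ⟨z, subset_closure (by simp)⟩
  have sb : ∀ a : K, IsConj z' a → (a : G) ∈ D := fun a ha => by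
    obtain ⟨c, rfl⟩ := isConj_iff.1 ha
    exact h.conj z hz c
  have cv : ∀ {a b : K}, Commute a b ↔ Commute (a : G) b := ⟨fun l => l.map K.subtype, fun l => Subtype.ext l⟩
  have h' : PT p {a : K | IsConj z' a} := ⟨h.pp, h.p2, fun a ha => Subtype.ext (h.sq _ (sb a ha)),
    fun a ha g => ha.trans (isConj_iff.2 ⟨g, rfl⟩), fun a ha b hb l =>
      Subtype.ext (h.ord _ (sb a ha) _ (sb b hb) fun l' => l (cv.2 l'))⟩
  have mem : ∀ a : K, (a : G) ∈ D → ¬ Commute z a → IsConj z' a := fun a ha l => by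
    obtain ⟨n, hn⟩ := (h.od hz ha l).exists_conj (h.sq z hz) (h.sq _ ha)
    exact isConj_iff.2 ⟨(z' * a) ^ n, Subtype.ext hn⟩
  let x' : K := ⟨x, subset_closure (by simp)⟩
  let y' : K := ⟨y, subset_closure (by simp)⟩
  let m' : K := ⟨m, subset_closure (by simp)⟩
  refine h'.bad_aux (x := x') (y := y') (m := m') (z := z') (fun a ha l => n1 _ (sb a ha) (congrArg Subtype.val l)) ?_
    (fun a ha => ha) (mem _ hx zx) (mem _ hy zy) (mem _ hm zm) (IsConj.refl _) (cv.2 xy) (cv.2 mx) (cv.2 my)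
    (fun l => zx (cv.1 l)) (fun l => zy (cv.1 l)) (fun l => zm (cv.1 l)) (cv.2 v) fun g k1 k2 k3 k4 a => cv.2 ?_
  · rw [eq_top_iff, ← closure_closure_coe_preimage]
    refine closure_mono fun a ha => ?_
    rcases ha with l | l | l | l
    exacts [mem a (l ▸ hx) (l ▸ zx), mem a (l ▸ hy) (l ▸ zy), mem a (l ▸ hm) (l ▸ zm),
      (Subtype.ext l : a = z') ▸ IsConj.refl _]
  · have : K ≤ centralizer {(g : G)} := (closure_le _).2 (by
      rintro _ (rfl | rfl | rfl | rfl)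
      exacts [mem_centralizer_singleton_iff.2 (cv.1 k1).symm, mem_centralizer_singleton_iff.2 (cv.1 k2).symm,
        mem_centralizer_singleton_iff.2 (cv.1 k3).symm, mem_centralizer_singleton_iff.2 (cv.1 k4).symm])
    exact mem_centralizer_singleton_iff.1 (this a.2)

theorem star [Finite G] (n1 : ∀ a ∈ D, a ≠ 1) (p3 : p ≠ 3) (hx : x ∈ D) (ha : a ∈ D) (hb : b ∈ D) (hw : w ∈ D)
    (xa : Commute x a) (xb : Commute x b) (ab : ¬ Commute a b) (wa : Commute w a) (wx : ¬ Commute w x) :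
    Commute w b := by
  by_contra wb
  have A := h.sq a ha
  have B := h.sq b hb
  have rt : ∀ k, ¬ p ∣ k → ¬ Commute w ((a * b) ^ k) := fun k hk l => wb (by
    simpa only [← mul_assoc, A, one_mul] using wa.mul_right (comm_root h.pp (h.ord a ha b hb ab) hk l))
  have aw := (tri_eq A).2 wa
  have hc := h.tri ha hb
  have g1 := h.good n1 hx hb hw xb wx wb
  have g2 := h.good n1 hx (h.tri ha (h.tri hb ha)) hw ((xa.mul_right ((xb.mul_right xa).mul_right xb)).mul_right xa) wx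
    fun l => rt 2 h.nd2 (by
      rw [comm_tri' A, aw] at l
      simpa only [pow_succ, pow_zero, one_mul, mul_assoc] using wa.mul_right l)
  have e1 : a * (b * a * b) * a * w * (a * (b * a * b) * a) = a * b * a * (b * w * b) * (a * b * a) := by
    conv_rhs => rw [← aw]
    simp only [mul_assoc]
  have := h.line (h.tri hb hw) hc (fun l => rt 3 (fun k => p3 ((Nat.prime_dvd_prime_iff_eq h.pp Nat.prime_three).1 k)) (by
    rw [← comm_tri' B] at l
    simpa only [pow_succ, pow_zero, one_mul, mul_assoc] using wa.mul_right l)) g1 (e1 ▸ g2)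
  rw [← comm_tri' (h.sq x hx), (tri_eq (h.sq x hx)).2 ((xa.mul_right xb).mul_right xa).symm, comm_tri' A, aw] at this
  exact wb this

theorem trans [Finite G] (n1 : ∀ a ∈ D, a ≠ 1) (p3 : p ≠ 3) (gen : closure D = ⊤) (cl : ∀ a ∈ D, ∀ b ∈ D, IsConj a b)
    (tA : ∀ x ∈ D, ∀ y ∈ D, ∀ y' ∈ D, y ≠ x → y' ≠ x → Commute x y → Commute x y' → ∃ g, Commute g x ∧ g * y * g⁻¹ = y')
    (tB : ∀ x ∈ D, ∀ y ∈ D, ∀ y' ∈ D, ¬ Commute x y → ¬ Commute x y' → ∃ g, Commute g x ∧ g * y * g⁻¹ = y')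
    (hx : x ∈ D) (hy : y ∈ D) (hw : w ∈ D) (xy : Commute x y) (yw : Commute y w) : Commute x w := by
  by_contra xw
  have yx : y ≠ x := fun l => xw (l ▸ yw)
  have c1 : ∀ s ∈ D, Commute x s → s ≠ x → Commute w s := fun s hs xs sx => by
    by_cases ys : Commute y s
    swap
    · exact h.star n1 p3 hx hy hs hw xy xs ys yw.symm fun l => xw l.symm
    by_cases e : s = y
    · exact e ▸ yw.symm
    by_cases ex : ∃ t ∈ D, Commute x t ∧ ¬ Commute y t ∧ ¬ Commute t s
    · obtain ⟨t, ht, xt, yt, ts⟩ := ex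
      exact h.star n1 p3 hx ht hs hw xt xs ts (h.star n1 p3 hx hy ht hw xy xt yt yw.symm fun l => xw l.symm)
        fun l => xw l.symm
    by_contra ws
    obtain ⟨g, gs, hg⟩ := tA s hs x hx y hy sx.symm (Ne.symm e) xs.symm ys.symm
    have : {t | t ∈ D ∧ ¬ Commute s t ∧ Commute x t} = {t | t ∈ D ∧ ¬ Commute s t ∧ Commute y t} := by
      refine Set.eq_of_subset_of_ncard_le (fun t ht => ⟨ht.1, ht.2.1, by
        by_contra l; exact ex ⟨t, ht.1, ht.2.2, l, fun l' => ht.2.1 l'.symm⟩⟩) ?_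
      refine Set.ncard_le_ncard_of_injOn (fun t => g⁻¹ * t * g⁻¹⁻¹) (fun t ht => ⟨h.conj t ht.1 _, fun l => ht.2.1 ?_, ?_⟩)
        (fun t _ t' _ l => by simpa using l)
      · have := l.conj g
        rwa [gs.eq, mul_inv_cancel_right, show g * (g⁻¹ * t * g⁻¹⁻¹) * g⁻¹ = t by group] at this
      · have := ht.2.2.conj g⁻¹
        rwa [← hg, show g⁻¹ * (g * x * g⁻¹) * g⁻¹⁻¹ = x by group] at this
    have k : w ∈ {t | t ∈ D ∧ ¬ Commute s t ∧ Commute x t} := this ▸ ⟨hw, fun l => ws l.symm, yw⟩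
    exact xw k.2.2
  have c2 : ∀ z ∈ D, (z = x ∨ ¬ Commute x z) → ∀ s ∈ D, Commute x s → s ≠ x → Commute z s := by
    rintro z hz (rfl | xz) s hs xs sx
    · exact xs
    obtain ⟨g, gx, rfl⟩ := tB x hx w hw z hz xw xz
    have e : g⁻¹ * x * g⁻¹⁻¹ = x := by rw [gx.inv_left.eq, mul_inv_cancel_right]
    have := (c1 _ (h.conj s hs g⁻¹) (e ▸ xs.conj g⁻¹) fun l => sx (by rw [← e] at l; simpa using l)).conj g
    rwa [show g * (g⁻¹ * s * g⁻¹⁻¹) * g⁻¹ = s by group] at this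
  obtain ⟨g, hg⟩ := isConj_iff.1 (cl x hx y hy)
  have := Fischer.conj_mem_of_closure h.sq (X := {z | z ∈ D ∧ (z = x ∨ ¬ Commute x z)}) (fun s hs a ha => by
    by_cases k : s = x ∨ ¬ Commute x s
    · refine ⟨h.tri hs ha.1, ?_⟩
      by_contra l
      push Not at l
      have := (tri_eq (h.sq s hs)).2 (c2 s hs k _ (h.tri hs ha.1) l.2 l.1).symm
      simp only [← mul_assoc, h.sq s hs, one_mul, mul_assoc _ s s, mul_one] at this
      rw [← this] at l
      exact ha.2.elim l.1 fun l' => l' l.2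
    · push Not at k
      rwa [(tri_eq (h.sq s hs)).2 (c2 a ha.1 ha.2 s hs k.2 k.1)]) (gen ▸ mem_top g) ⟨hx, .inl rfl⟩
  rw [hg] at this
  exact this.2.elim yx fun l => l xy

end PT

end Cfsg.Agent.FI.Rk3
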