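import Cfsg.Agent.FI.Pln

/-! `S₅` from its Coxeter presentation (helper16). -/

namespace Cfsg.Agent.FI

open Cfsg.Agent.Fischer Subgroup Equiv

/-- Certificate table. -/
def tabS5_T : RT :=
    (.node [0,0] [] (.node [1,1] [] (.node [3,3] [] (.node [0,2] [2,0] .nil .nil) (.node [3,2,1,3] [2,3,2,1]
    .nil .nil)) (.node [1,2,1] [2,1,2] (.node [1,3] [3,1] .nil .nil) .nil)) (.node [2,2] [] (.node [0,1,0]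
    [1,0,1] (.node [0,3] [3,0] .nil .nil) (.node [3,2,1,0,3] [2,3,2,1,0] .nil .nil)) (.node [2,3,2] [3,2,3]
    (.node [2,1,0,2] [1,2,1,0] .nil .nil) .nil)))

/-- Certificate steps. -/
def tabS5_P : List (List ℕ) :=
    [[3586, 2816], [4610, 3328], [4099, 5632]]

/-- Certificate steps. -/
def tabS5_Q : List (List ℕ) :=
    [[], [], [], [], [0], [], [3840], [4352], [], [512], [], [4864], [], [], [1024], [], [], [], [], [1536],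
    [], [512], [], [4864, 4353], [0], [], [3840, 1025], [4352], [0], [], [3840], [4352, 1537], [0], [2304],
    [3840], [4352, 4865], [], [], [1024], [], [], [512], [], [4864, 1537], [], [512], [2816], [4864], [], [],
    [], [1536], [], [], [1024], [3328], [0], [2304, 2], [3840], [4352, 4865, 4354], [], [], [1024], [], [],
    [512], [], [4864, 4353, 1538], [], [512], [5120], [4864, 4353], [0], [], [3840], [4352, 1537], [0], [],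
    [3840, 1025], [4352, 3329], [0], [], [3840, 1025], [4352], [0], [2304], [3840], [4352, 4865, 1538], [],
    [512], [2816, 514], [4864], [], [], [], [1536], [], [], [1024], [5632], [0], [2304], [3840, 2817], [4352,
    4865], [], [512], [], [4864, 1537], [], [], [1024], [3328, 1026], [], [512], [2816], [4864, 3329], [0],
    [], [3840, 1025], [4352], [0], [2304, 2], [3840], [4352, 4865, 4354, 1539], [], [512], [2816, 514, 3841],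
    [4864], [], [], [], [1536], [], [], [1024], [6144], [0], [2304, 2], [3840, 5121], [4352, 4865, 4354], [],
    [512], [], [4864, 4353, 1538], [0], [], [3840, 1025], [4352, 3329, 1027], [], [512], [5120], [4864, 4353,
    3330], [], [512], [5120, 2306, 3841], [4864, 4353], [0], [], [3840], [4352, 1537], [0], [], [3840, 1025],
    [4352, 5633], [0], [2304], [3840, 2817, 515], [4352, 4865], [], [512], [], [4864, 1537], [], [], [1024],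
    [3328, 1026, 4865], [], [512], [2816, 514], [4864, 5633], [0], [2304], [3840], [4352, 4865, 1538], [], [],
    [1024], [5632, 2818, 4865], [], [512], [2816], [4864, 3329, 1027], [0], [2304], [3840, 2817], [4352, 4865,
    3330], [], [512], [5120, 2306, 3841, 4], [4864, 4353], [0], [], [3840], [4352, 1537], [0], [], [3840,
    1025], [4352, 6145], [0], [2304], [3840, 2817, 515, 3842], [4352, 4865], [], [512], [], [4864, 1537], [],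
    [], [1024], [3328, 1026, 4865, 4354], [], [512], [2816, 514, 3841], [4864, 6145], [0], [2304, 2], [3840],
    [4352, 4865, 4354, 1539], [], [], [1024], [6144, 5122, 4865], [], [512], [5120], [4864, 4353, 3330, 1028],
    [0], [2304, 2], [3840, 5121], [4352, 4865, 4354, 3331], [0], [2304, 2], [3840, 5121, 2307, 3842], [4352,
    4865, 4354], [], [512], [], [4864, 4353, 1538], [0], [], [3840, 1025], [4352, 3329, 1027, 4866], [],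
    [512], [5120, 2306, 3841], [4864, 4353, 5634], [0], [2304], [3840], [4352, 4865, 1538], [], [], [1024],
    [5632, 2818, 4865, 516], [], [512], [2816], [4864, 3329, 1027, 4866], [0], [2304], [3840, 2817, 515],
    [4352, 4865, 5634], [0], [], [3840, 1025], [4352, 5633, 2819, 4866], [], [512], [2816, 514], [4864, 5633,
    2819, 4866], [0], [2304], [3840, 2817], [4352, 4865, 3330, 1028], [0], [2304, 2], [3840, 5121, 2307, 3842,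
    5], [4352, 4865, 4354], [], [512], [], [4864, 4353, 1538], [0], [], [3840, 1025], [4352, 3329, 1027, 4866,
    4355], [], [512], [5120, 2306, 3841, 4], [4864, 4353, 6146], [0], [2304], [3840], [4352, 4865, 1538], [],
    [], [1024], [5632, 2818, 4865, 516, 3843, 4354], [], [512], [2816], [4864, 3329, 1027, 4866, 4355], [0],
    [2304], [3840, 2817, 515, 3842], [4352, 4865, 6146], [0], [], [3840, 1025], [4352, 6145, 5123, 4866], [],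
    [512], [2816, 514, 3841], [4864, 6145, 5123, 4866], [0], [2304, 2], [3840, 5121], [4352, 4865, 4354, 3331,
    1029], [0], [2304, 2], [3840], [4352, 4865, 4354, 1539], [], [], [1024], [6144, 5122, 4865, 2308, 3843,
    4354], [], [512], [5120], [4864, 4353, 3330, 1028, 4867], [0], [2304, 2], [3840, 5121, 2307, 3842], [4352,
    4865, 4354, 5635], [0], [], [3840, 1025], [4352, 5633, 2819, 4866, 517], [], [512], [2816, 514], [4864,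
    5633, 2819, 4866, 517], [0], [2304], [3840, 2817], [4352, 4865, 3330, 1028, 4867], [], [512], [5120, 2306,
    3841], [4864, 4353, 5634, 2820, 4867], [0], [2304], [3840, 2817, 515], [4352, 4865, 5634, 2820, 4867],
    [0], [2304, 2], [3840], [4352, 4865, 4354, 1539], [], [], [1024], [6144, 5122, 4865, 2308, 3843, 4354, 6],
    [], [512], [5120], [4864, 4353, 3330, 1028, 4867, 4356], [0], [2304, 2], [3840, 5121, 2307, 3842, 5],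
    [4352, 4865, 4354, 6147], [0], [], [3840, 1025], [4352, 5633, 2819, 4866, 517, 3844, 4355], [], [512],
    [2816, 514], [4864, 5633, 2819, 4866, 517, 3844, 4355], [0], [2304], [3840, 2817], [4352, 4865, 3330,
    1028, 4867, 4356], [], [512], [5120, 2306, 3841, 4], [4864, 4353, 6146, 5124, 4867], [0], [2304], [3840,
    2817, 515, 3842], [4352, 4865, 6146, 5124, 4867], [0], [], [3840, 1025], [4352, 6145, 5123, 4866, 2309,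
    3844, 4355], [], [512], [2816, 514, 3841], [4864, 6145, 5123, 4866, 2309, 3844, 4355], [0], [2304, 2],
    [3840, 5121], [4352, 4865, 4354, 3331, 1029, 4868], [], [512], [5120, 2306, 3841], [4864, 4353, 5634,
    2820, 4867, 518], [0], [2304], [3840, 2817, 515], [4352, 4865, 5634, 2820, 4867, 518], [0], [2304, 2],
    [3840, 5121, 2307, 3842], [4352, 4865, 4354, 5635, 2821, 4868], [0], [], [3840, 1025], [4352, 6145, 5123,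
    4866, 2309, 3844, 4355, 7], [], [512], [2816, 514, 3841], [4864, 6145, 5123, 4866, 2309, 3844, 4355, 7],
    [0], [2304, 2], [3840, 5121], [4352, 4865, 4354, 3331, 1029, 4868, 4357], [], [512], [5120, 2306, 3841],
    [4864, 4353, 5634, 2820, 4867, 518, 3845, 4356], [0], [2304], [3840, 2817, 515], [4352, 4865, 5634, 2820,
    4867, 518, 3845, 4356], [0], [2304, 2], [3840, 5121, 2307, 3842, 5], [4352, 4865, 4354, 6147, 5125, 4868],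
    [], [512], [5120, 2306, 3841, 4], [4864, 4353, 6146, 5124, 4867, 2310, 3845, 4356], [0], [2304], [3840,
    2817, 515, 3842], [4352, 4865, 6146, 5124, 4867, 2310, 3845, 4356], [0], [2304, 2], [3840, 5121, 2307,
    3842], [4352, 4865, 4354, 5635, 2821, 4868, 519], [], [512], [5120, 2306, 3841, 4], [4864, 4353, 6146,
    5124, 4867, 2310, 3845, 4356, 8], [0], [2304], [3840, 2817, 515, 3842], [4352, 4865, 6146, 5124, 4867,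
    2310, 3845, 4356, 8], [0], [2304, 2], [3840, 5121, 2307, 3842], [4352, 4865, 4354, 5635, 2821, 4868, 519,
    3846, 4357], [0], [2304, 2], [3840, 5121, 2307, 3842, 5], [4352, 4865, 4354, 6147, 5125, 4868, 2311, 3846,
    4357], [0], [2304, 2], [3840, 5121, 2307, 3842, 5], [4352, 4865, 4354, 6147, 5125, 4868, 2311, 3846, 4357,
    9]]

/-- Normal forms. -/
def tabS5_W : List (List ℕ) :=
    [[], [0], [1], [2], [3], [1,0], [0,2], [0,3], [0,1], [2,1], [1,3], [1,2], [3,2], [2,3], [0,1,0], [2,1,0],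
    [1,0,3], [1,0,2], [0,3,2], [0,2,3], [0,2,1], [0,1,3], [1,2,1], [3,2,1], [2,1,3], [0,1,2], [1,3,2],
    [2,3,2], [1,2,3], [0,2,1,0], [0,1,0,3], [1,2,1,0], [3,2,1,0], [2,1,0,3], [0,1,0,2], [1,0,3,2], [0,2,3,2],
    [1,0,2,3], [1,0,2,1], [0,3,2,1], [0,2,1,3], [0,1,2,1], [1,3,2,1], [2,3,2,1], [1,2,1,3], [0,1,3,2],
    [2,1,3,2], [1,2,3,2], [0,1,2,3], [1,0,2,1,0], [0,3,2,1,0], [0,2,1,0,3], [0,1,2,1,0], [1,3,2,1,0],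
    [2,3,2,1,0], [1,2,1,0,3], [0,1,0,3,2], [2,1,0,3,2], [1,0,2,3,2], [0,1,0,2,3], [0,1,0,2,1], [1,0,3,2,1],
    [0,2,3,2,1], [1,0,2,1,3], [0,1,3,2,1], [2,1,3,2,1], [1,2,3,2,1], [0,1,2,1,3], [0,2,1,3,2], [1,2,1,3,2],
    [0,1,2,3,2], [0,1,0,2,1,0], [1,0,3,2,1,0], [0,2,3,2,1,0], [1,0,2,1,0,3], [0,1,3,2,1,0], [2,1,3,2,1,0],
    [1,2,3,2,1,0], [0,1,2,1,0,3], [0,2,1,0,3,2], [1,2,1,0,3,2], [0,1,0,2,3,2], [0,1,0,3,2,1], [2,1,0,3,2,1],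
    [1,0,2,3,2,1], [0,1,0,2,1,3], [0,2,1,3,2,1], [1,2,1,3,2,1], [0,1,2,3,2,1], [1,0,2,1,3,2], [0,1,2,1,3,2],
    [0,1,0,3,2,1,0], [2,1,0,3,2,1,0], [1,0,2,3,2,1,0], [0,1,0,2,1,0,3], [0,2,1,3,2,1,0], [1,2,1,3,2,1,0],
    [0,1,2,3,2,1,0], [1,0,2,1,0,3,2], [0,1,2,1,0,3,2], [0,2,1,0,3,2,1], [1,2,1,0,3,2,1], [0,1,0,2,3,2,1],
    [1,0,2,1,3,2,1], [0,1,2,1,3,2,1], [0,1,0,2,1,3,2], [0,2,1,0,3,2,1,0], [1,2,1,0,3,2,1,0],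
    [0,1,0,2,3,2,1,0], [1,0,2,1,3,2,1,0], [0,1,2,1,3,2,1,0], [0,1,0,2,1,0,3,2], [1,0,2,1,0,3,2,1],
    [0,1,2,1,0,3,2,1], [0,1,0,2,1,3,2,1], [1,0,2,1,0,3,2,1,0], [0,1,2,1,0,3,2,1,0], [0,1,0,2,1,3,2,1,0],
    [0,1,0,2,1,0,3,2,1], [0,1,0,2,1,0,3,2,1,0]]

/-- The relations. -/
def tabS5_B : List (List ℕ × List ℕ) :=
    [([0], [0]), ([1], [1]), ([2], [2]), ([3], [3]), ([0,0], []), ([1,0], [1,0]), ([2,0], [0,2]), ([3,0],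
    [0,3]), ([0,1], [0,1]), ([1,1], []), ([2,1], [2,1]), ([3,1], [1,3]), ([0,2], [0,2]), ([1,2], [1,2]),
    ([2,2], []), ([3,2], [3,2]), ([0,3], [0,3]), ([1,3], [1,3]), ([2,3], [2,3]), ([3,3], []), ([0,1,0],
    [0,1,0]), ([1,1,0], [0]), ([2,1,0], [2,1,0]), ([3,1,0], [1,0,3]), ([0,0,2], [2]), ([1,0,2], [1,0,2]),
    ([2,0,2], [0]), ([3,0,2], [0,3,2]), ([0,0,3], [3]), ([1,0,3], [1,0,3]), ([2,0,3], [0,2,3]), ([3,0,3],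
    [0]), ([0,0,1], [1]), ([1,0,1], [0,1,0]), ([2,0,1], [0,2,1]), ([3,0,1], [0,1,3]), ([0,2,1], [0,2,1]),
    ([1,2,1], [1,2,1]), ([2,2,1], [1]), ([3,2,1], [3,2,1]), ([0,1,3], [0,1,3]), ([1,1,3], [3]), ([2,1,3],
    [2,1,3]), ([3,1,3], [1]), ([0,1,2], [0,1,2]), ([1,1,2], [2]), ([2,1,2], [1,2,1]), ([3,1,2], [1,3,2]),
    ([0,3,2], [0,3,2]), ([1,3,2], [1,3,2]), ([2,3,2], [2,3,2]), ([3,3,2], [2]), ([0,2,3], [0,2,3]), ([1,2,3],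
    [1,2,3]), ([2,2,3], [3]), ([3,2,3], [2,3,2]), ([0,0,1,0], [1,0]), ([1,0,1,0], [0,1]), ([2,0,1,0],
    [0,2,1,0]), ([3,0,1,0], [0,1,0,3]), ([0,2,1,0], [0,2,1,0]), ([1,2,1,0], [1,2,1,0]), ([2,2,1,0], [1,0]),
    ([3,2,1,0], [3,2,1,0]), ([0,1,0,3], [0,1,0,3]), ([1,1,0,3], [0,3]), ([2,1,0,3], [2,1,0,3]), ([3,1,0,3],
    [1,0]), ([0,1,0,2], [0,1,0,2]), ([1,1,0,2], [0,2]), ([2,1,0,2], [1,2,1,0]), ([3,1,0,2], [1,0,3,2]),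
    ([0,0,3,2], [3,2]), ([1,0,3,2], [1,0,3,2]), ([2,0,3,2], [0,2,3,2]), ([3,0,3,2], [0,2]), ([0,0,2,3],
    [2,3]), ([1,0,2,3], [1,0,2,3]), ([2,0,2,3], [0,3]), ([3,0,2,3], [0,2,3,2]), ([0,0,2,1], [2,1]),
    ([1,0,2,1], [1,0,2,1]), ([2,0,2,1], [0,1]), ([3,0,2,1], [0,3,2,1]), ([0,0,1,3], [1,3]), ([1,0,1,3],
    [0,1,0,3]), ([2,0,1,3], [0,2,1,3]), ([3,0,1,3], [0,1]), ([0,1,2,1], [0,1,2,1]), ([1,1,2,1], [2,1]),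
    ([2,1,2,1], [1,2]), ([3,1,2,1], [1,3,2,1]), ([0,3,2,1], [0,3,2,1]), ([1,3,2,1], [1,3,2,1]), ([2,3,2,1],
    [2,3,2,1]), ([3,3,2,1], [2,1]), ([0,2,1,3], [0,2,1,3]), ([1,2,1,3], [1,2,1,3]), ([2,2,1,3], [1,3]),
    ([3,2,1,3], [2,3,2,1]), ([0,0,1,2], [1,2]), ([1,0,1,2], [0,1,0,2]), ([2,0,1,2], [0,1,2,1]), ([3,0,1,2],
    [0,1,3,2]), ([0,1,3,2], [0,1,3,2]), ([1,1,3,2], [3,2]), ([2,1,3,2], [2,1,3,2]), ([3,1,3,2], [1,2]),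
    ([0,2,3,2], [0,2,3,2]), ([1,2,3,2], [1,2,3,2]), ([2,2,3,2], [3,2]), ([3,2,3,2], [2,3]), ([0,1,2,3],
    [0,1,2,3]), ([1,1,2,3], [2,3]), ([2,1,2,3], [1,2,1,3]), ([3,1,2,3], [1,2,3,2]), ([0,0,2,1,0], [2,1,0]),
    ([1,0,2,1,0], [1,0,2,1,0]), ([2,0,2,1,0], [0,1,0]), ([3,0,2,1,0], [0,3,2,1,0]), ([0,0,1,0,3], [1,0,3]),
    ([1,0,1,0,3], [0,1,3]), ([2,0,1,0,3], [0,2,1,0,3]), ([3,0,1,0,3], [0,1,0]), ([0,1,2,1,0], [0,1,2,1,0]),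
    ([1,1,2,1,0], [2,1,0]), ([2,1,2,1,0], [1,0,2]), ([3,1,2,1,0], [1,3,2,1,0]), ([0,3,2,1,0], [0,3,2,1,0]),
    ([1,3,2,1,0], [1,3,2,1,0]), ([2,3,2,1,0], [2,3,2,1,0]), ([3,3,2,1,0], [2,1,0]), ([0,2,1,0,3],
    [0,2,1,0,3]), ([1,2,1,0,3], [1,2,1,0,3]), ([2,2,1,0,3], [1,0,3]), ([3,2,1,0,3], [2,3,2,1,0]),
    ([0,0,1,0,2], [1,0,2]), ([1,0,1,0,2], [0,1,2]), ([2,0,1,0,2], [0,1,2,1,0]), ([3,0,1,0,2], [0,1,0,3,2]),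
    ([0,1,0,3,2], [0,1,0,3,2]), ([1,1,0,3,2], [0,3,2]), ([2,1,0,3,2], [2,1,0,3,2]), ([3,1,0,3,2], [1,0,2]),
    ([0,0,2,3,2], [2,3,2]), ([1,0,2,3,2], [1,0,2,3,2]), ([2,0,2,3,2], [0,3,2]), ([3,0,2,3,2], [0,2,3]),
    ([0,1,0,2,3], [0,1,0,2,3]), ([1,1,0,2,3], [0,2,3]), ([2,1,0,2,3], [1,2,1,0,3]), ([3,1,0,2,3],
    [1,0,2,3,2]), ([0,1,0,2,1], [0,1,0,2,1]), ([1,1,0,2,1], [0,2,1]), ([2,1,0,2,1], [1,0,2,1,0]),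
    ([3,1,0,2,1], [1,0,3,2,1]), ([0,0,3,2,1], [3,2,1]), ([1,0,3,2,1], [1,0,3,2,1]), ([2,0,3,2,1],
    [0,2,3,2,1]), ([3,0,3,2,1], [0,2,1]), ([0,0,2,1,3], [2,1,3]), ([1,0,2,1,3], [1,0,2,1,3]), ([2,0,2,1,3],
    [0,1,3]), ([3,0,2,1,3], [0,2,3,2,1]), ([0,0,1,2,1], [1,2,1]), ([1,0,1,2,1], [0,1,0,2,1]), ([2,0,1,2,1],
    [0,1,2]), ([3,0,1,2,1], [0,1,3,2,1]), ([0,1,3,2,1], [0,1,3,2,1]), ([1,1,3,2,1], [3,2,1]), ([2,1,3,2,1],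
    [2,1,3,2,1]), ([3,1,3,2,1], [1,2,1]), ([0,2,3,2,1], [0,2,3,2,1]), ([1,2,3,2,1], [1,2,3,2,1]),
    ([2,2,3,2,1], [3,2,1]), ([3,2,3,2,1], [2,1,3]), ([0,1,2,1,3], [0,1,2,1,3]), ([1,1,2,1,3], [2,1,3]),
    ([2,1,2,1,3], [1,2,3]), ([3,1,2,1,3], [1,2,3,2,1]), ([0,0,1,3,2], [1,3,2]), ([1,0,1,3,2], [0,1,0,3,2]),
    ([2,0,1,3,2], [0,2,1,3,2]), ([3,0,1,3,2], [0,1,2]), ([0,2,1,3,2], [0,2,1,3,2]), ([1,2,1,3,2],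
    [1,2,1,3,2]), ([2,2,1,3,2], [1,3,2]), ([3,2,1,3,2], [2,1,3,2,1]), ([0,1,2,3,2], [0,1,2,3,2]),
    ([1,1,2,3,2], [2,3,2]), ([2,1,2,3,2], [1,2,1,3,2]), ([3,1,2,3,2], [1,2,3]), ([0,0,1,2,3], [1,2,3]),
    ([1,0,1,2,3], [0,1,0,2,3]), ([2,0,1,2,3], [0,1,2,1,3]), ([3,0,1,2,3], [0,1,2,3,2]), ([0,1,0,2,1,0],
    [0,1,0,2,1,0]), ([1,1,0,2,1,0], [0,2,1,0]), ([2,1,0,2,1,0], [1,0,2,1]), ([3,1,0,2,1,0], [1,0,3,2,1,0]),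
    ([0,0,3,2,1,0], [3,2,1,0]), ([1,0,3,2,1,0], [1,0,3,2,1,0]), ([2,0,3,2,1,0], [0,2,3,2,1,0]),
    ([3,0,3,2,1,0], [0,2,1,0]), ([0,0,2,1,0,3], [2,1,0,3]), ([1,0,2,1,0,3], [1,0,2,1,0,3]), ([2,0,2,1,0,3],
    [0,1,0,3]), ([3,0,2,1,0,3], [0,2,3,2,1,0]), ([0,0,1,2,1,0], [1,2,1,0]), ([1,0,1,2,1,0], [0,1,0,2,1,0]),
    ([2,0,1,2,1,0], [0,1,0,2]), ([3,0,1,2,1,0], [0,1,3,2,1,0]), ([0,1,3,2,1,0], [0,1,3,2,1,0]),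
    ([1,1,3,2,1,0], [3,2,1,0]), ([2,1,3,2,1,0], [2,1,3,2,1,0]), ([3,1,3,2,1,0], [1,2,1,0]), ([0,2,3,2,1,0],
    [0,2,3,2,1,0]), ([1,2,3,2,1,0], [1,2,3,2,1,0]), ([2,2,3,2,1,0], [3,2,1,0]), ([3,2,3,2,1,0], [2,1,0,3]),
    ([0,1,2,1,0,3], [0,1,2,1,0,3]), ([1,1,2,1,0,3], [2,1,0,3]), ([2,1,2,1,0,3], [1,0,2,3]), ([3,1,2,1,0,3],
    [1,2,3,2,1,0]), ([0,0,1,0,3,2], [1,0,3,2]), ([1,0,1,0,3,2], [0,1,3,2]), ([2,0,1,0,3,2], [0,2,1,0,3,2]),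
    ([3,0,1,0,3,2], [0,1,0,2]), ([0,2,1,0,3,2], [0,2,1,0,3,2]), ([1,2,1,0,3,2], [1,2,1,0,3,2]),
    ([2,2,1,0,3,2], [1,0,3,2]), ([3,2,1,0,3,2], [2,1,3,2,1,0]), ([0,1,0,2,3,2], [0,1,0,2,3,2]),
    ([1,1,0,2,3,2], [0,2,3,2]), ([2,1,0,2,3,2], [1,2,1,0,3,2]), ([3,1,0,2,3,2], [1,0,2,3]), ([0,0,1,0,2,3],
    [1,0,2,3]), ([1,0,1,0,2,3], [0,1,2,3]), ([2,0,1,0,2,3], [0,1,2,1,0,3]), ([3,0,1,0,2,3], [0,1,0,2,3,2]),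
    ([0,0,1,0,2,1], [1,0,2,1]), ([1,0,1,0,2,1], [0,1,2,1]), ([2,0,1,0,2,1], [0,1,0,2,1,0]), ([3,0,1,0,2,1],
    [0,1,0,3,2,1]), ([0,1,0,3,2,1], [0,1,0,3,2,1]), ([1,1,0,3,2,1], [0,3,2,1]), ([2,1,0,3,2,1],
    [2,1,0,3,2,1]), ([3,1,0,3,2,1], [1,0,2,1]), ([0,0,2,3,2,1], [2,3,2,1]), ([1,0,2,3,2,1], [1,0,2,3,2,1]),
    ([2,0,2,3,2,1], [0,3,2,1]), ([3,0,2,3,2,1], [0,2,1,3]), ([0,1,0,2,1,3], [0,1,0,2,1,3]), ([1,1,0,2,1,3],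
    [0,2,1,3]), ([2,1,0,2,1,3], [1,0,2,1,0,3]), ([3,1,0,2,1,3], [1,0,2,3,2,1]), ([0,0,1,3,2,1], [1,3,2,1]),
    ([1,0,1,3,2,1], [0,1,0,3,2,1]), ([2,0,1,3,2,1], [0,2,1,3,2,1]), ([3,0,1,3,2,1], [0,1,2,1]),
    ([0,2,1,3,2,1], [0,2,1,3,2,1]), ([1,2,1,3,2,1], [1,2,1,3,2,1]), ([2,2,1,3,2,1], [1,3,2,1]),
    ([3,2,1,3,2,1], [2,1,3,2]), ([0,1,2,3,2,1], [0,1,2,3,2,1]), ([1,1,2,3,2,1], [2,3,2,1]), ([2,1,2,3,2,1],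
    [1,2,1,3,2,1]), ([3,1,2,3,2,1], [1,2,1,3]), ([0,0,1,2,1,3], [1,2,1,3]), ([1,0,1,2,1,3], [0,1,0,2,1,3]),
    ([2,0,1,2,1,3], [0,1,2,3]), ([3,0,1,2,1,3], [0,1,2,3,2,1]), ([0,0,2,1,3,2], [2,1,3,2]), ([1,0,2,1,3,2],
    [1,0,2,1,3,2]), ([2,0,2,1,3,2], [0,1,3,2]), ([3,0,2,1,3,2], [0,2,1,3,2,1]), ([0,1,2,1,3,2],
    [0,1,2,1,3,2]), ([1,1,2,1,3,2], [2,1,3,2]), ([2,1,2,1,3,2], [1,2,3,2]), ([3,1,2,1,3,2], [1,2,1,3,2,1]),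
    ([0,0,1,2,3,2], [1,2,3,2]), ([1,0,1,2,3,2], [0,1,0,2,3,2]), ([2,0,1,2,3,2], [0,1,2,1,3,2]),
    ([3,0,1,2,3,2], [0,1,2,3]), ([0,0,1,0,2,1,0], [1,0,2,1,0]), ([1,0,1,0,2,1,0], [0,1,2,1,0]),
    ([2,0,1,0,2,1,0], [0,1,0,2,1]), ([3,0,1,0,2,1,0], [0,1,0,3,2,1,0]), ([0,1,0,3,2,1,0], [0,1,0,3,2,1,0]),
    ([1,1,0,3,2,1,0], [0,3,2,1,0]), ([2,1,0,3,2,1,0], [2,1,0,3,2,1,0]), ([3,1,0,3,2,1,0], [1,0,2,1,0]),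
    ([0,0,2,3,2,1,0], [2,3,2,1,0]), ([1,0,2,3,2,1,0], [1,0,2,3,2,1,0]), ([2,0,2,3,2,1,0], [0,3,2,1,0]),
    ([3,0,2,3,2,1,0], [0,2,1,0,3]), ([0,1,0,2,1,0,3], [0,1,0,2,1,0,3]), ([1,1,0,2,1,0,3], [0,2,1,0,3]),
    ([2,1,0,2,1,0,3], [1,0,2,1,3]), ([3,1,0,2,1,0,3], [1,0,2,3,2,1,0]), ([0,0,1,3,2,1,0], [1,3,2,1,0]),
    ([1,0,1,3,2,1,0], [0,1,0,3,2,1,0]), ([2,0,1,3,2,1,0], [0,2,1,3,2,1,0]), ([3,0,1,3,2,1,0], [0,1,2,1,0]),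
    ([0,2,1,3,2,1,0], [0,2,1,3,2,1,0]), ([1,2,1,3,2,1,0], [1,2,1,3,2,1,0]), ([2,2,1,3,2,1,0], [1,3,2,1,0]),
    ([3,2,1,3,2,1,0], [2,1,0,3,2]), ([0,1,2,3,2,1,0], [0,1,2,3,2,1,0]), ([1,1,2,3,2,1,0], [2,3,2,1,0]),
    ([2,1,2,3,2,1,0], [1,2,1,3,2,1,0]), ([3,1,2,3,2,1,0], [1,2,1,0,3]), ([0,0,1,2,1,0,3], [1,2,1,0,3]),
    ([1,0,1,2,1,0,3], [0,1,0,2,1,0,3]), ([2,0,1,2,1,0,3], [0,1,0,2,3]), ([3,0,1,2,1,0,3], [0,1,2,3,2,1,0]),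
    ([0,0,2,1,0,3,2], [2,1,0,3,2]), ([1,0,2,1,0,3,2], [1,0,2,1,0,3,2]), ([2,0,2,1,0,3,2], [0,1,0,3,2]),
    ([3,0,2,1,0,3,2], [0,2,1,3,2,1,0]), ([0,1,2,1,0,3,2], [0,1,2,1,0,3,2]), ([1,1,2,1,0,3,2], [2,1,0,3,2]),
    ([2,1,2,1,0,3,2], [1,0,2,3,2]), ([3,1,2,1,0,3,2], [1,2,1,3,2,1,0]), ([0,0,1,0,2,3,2], [1,0,2,3,2]),
    ([1,0,1,0,2,3,2], [0,1,2,3,2]), ([2,0,1,0,2,3,2], [0,1,2,1,0,3,2]), ([3,0,1,0,2,3,2], [0,1,0,2,3]),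
    ([0,0,1,0,3,2,1], [1,0,3,2,1]), ([1,0,1,0,3,2,1], [0,1,3,2,1]), ([2,0,1,0,3,2,1], [0,2,1,0,3,2,1]),
    ([3,0,1,0,3,2,1], [0,1,0,2,1]), ([0,2,1,0,3,2,1], [0,2,1,0,3,2,1]), ([1,2,1,0,3,2,1], [1,2,1,0,3,2,1]),
    ([2,2,1,0,3,2,1], [1,0,3,2,1]), ([3,2,1,0,3,2,1], [2,1,0,3,2,1,0]), ([0,1,0,2,3,2,1], [0,1,0,2,3,2,1]),
    ([1,1,0,2,3,2,1], [0,2,3,2,1]), ([2,1,0,2,3,2,1], [1,2,1,0,3,2,1]), ([3,1,0,2,3,2,1], [1,0,2,1,3]),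
    ([0,0,1,0,2,1,3], [1,0,2,1,3]), ([1,0,1,0,2,1,3], [0,1,2,1,3]), ([2,0,1,0,2,1,3], [0,1,0,2,1,0,3]),
    ([3,0,1,0,2,1,3], [0,1,0,2,3,2,1]), ([0,0,2,1,3,2,1], [2,1,3,2,1]), ([1,0,2,1,3,2,1], [1,0,2,1,3,2,1]),
    ([2,0,2,1,3,2,1], [0,1,3,2,1]), ([3,0,2,1,3,2,1], [0,2,1,3,2]), ([0,1,2,1,3,2,1], [0,1,2,1,3,2,1]),
    ([1,1,2,1,3,2,1], [2,1,3,2,1]), ([2,1,2,1,3,2,1], [1,2,3,2,1]), ([3,1,2,1,3,2,1], [1,2,1,3,2]),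
    ([0,0,1,2,3,2,1], [1,2,3,2,1]), ([1,0,1,2,3,2,1], [0,1,0,2,3,2,1]), ([2,0,1,2,3,2,1], [0,1,2,1,3,2,1]),
    ([3,0,1,2,3,2,1], [0,1,2,1,3]), ([0,1,0,2,1,3,2], [0,1,0,2,1,3,2]), ([1,1,0,2,1,3,2], [0,2,1,3,2]),
    ([2,1,0,2,1,3,2], [1,0,2,1,0,3,2]), ([3,1,0,2,1,3,2], [1,0,2,1,3,2,1]), ([0,0,1,2,1,3,2], [1,2,1,3,2]),
    ([1,0,1,2,1,3,2], [0,1,0,2,1,3,2]), ([2,0,1,2,1,3,2], [0,1,2,3,2]), ([3,0,1,2,1,3,2], [0,1,2,1,3,2,1]),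
    ([0,0,1,0,3,2,1,0], [1,0,3,2,1,0]), ([1,0,1,0,3,2,1,0], [0,1,3,2,1,0]), ([2,0,1,0,3,2,1,0],
    [0,2,1,0,3,2,1,0]), ([3,0,1,0,3,2,1,0], [0,1,0,2,1,0]), ([0,2,1,0,3,2,1,0], [0,2,1,0,3,2,1,0]),
    ([1,2,1,0,3,2,1,0], [1,2,1,0,3,2,1,0]), ([2,2,1,0,3,2,1,0], [1,0,3,2,1,0]), ([3,2,1,0,3,2,1,0],
    [2,1,0,3,2,1]), ([0,1,0,2,3,2,1,0], [0,1,0,2,3,2,1,0]), ([1,1,0,2,3,2,1,0], [0,2,3,2,1,0]),
    ([2,1,0,2,3,2,1,0], [1,2,1,0,3,2,1,0]), ([3,1,0,2,3,2,1,0], [1,0,2,1,0,3]), ([0,0,1,0,2,1,0,3],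
    [1,0,2,1,0,3]), ([1,0,1,0,2,1,0,3], [0,1,2,1,0,3]), ([2,0,1,0,2,1,0,3], [0,1,0,2,1,3]),
    ([3,0,1,0,2,1,0,3], [0,1,0,2,3,2,1,0]), ([0,0,2,1,3,2,1,0], [2,1,3,2,1,0]), ([1,0,2,1,3,2,1,0],
    [1,0,2,1,3,2,1,0]), ([2,0,2,1,3,2,1,0], [0,1,3,2,1,0]), ([3,0,2,1,3,2,1,0], [0,2,1,0,3,2]),
    ([0,1,2,1,3,2,1,0], [0,1,2,1,3,2,1,0]), ([1,1,2,1,3,2,1,0], [2,1,3,2,1,0]), ([2,1,2,1,3,2,1,0],
    [1,2,3,2,1,0]), ([3,1,2,1,3,2,1,0], [1,2,1,0,3,2]), ([0,0,1,2,3,2,1,0], [1,2,3,2,1,0]),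
    ([1,0,1,2,3,2,1,0], [0,1,0,2,3,2,1,0]), ([2,0,1,2,3,2,1,0], [0,1,2,1,3,2,1,0]), ([3,0,1,2,3,2,1,0],
    [0,1,2,1,0,3]), ([0,1,0,2,1,0,3,2], [0,1,0,2,1,0,3,2]), ([1,1,0,2,1,0,3,2], [0,2,1,0,3,2]),
    ([2,1,0,2,1,0,3,2], [1,0,2,1,3,2]), ([3,1,0,2,1,0,3,2], [1,0,2,1,3,2,1,0]), ([0,0,1,2,1,0,3,2],
    [1,2,1,0,3,2]), ([1,0,1,2,1,0,3,2], [0,1,0,2,1,0,3,2]), ([2,0,1,2,1,0,3,2], [0,1,0,2,3,2]),
    ([3,0,1,2,1,0,3,2], [0,1,2,1,3,2,1,0]), ([0,0,2,1,0,3,2,1], [2,1,0,3,2,1]), ([1,0,2,1,0,3,2,1],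
    [1,0,2,1,0,3,2,1]), ([2,0,2,1,0,3,2,1], [0,1,0,3,2,1]), ([3,0,2,1,0,3,2,1], [0,2,1,0,3,2,1,0]),
    ([0,1,2,1,0,3,2,1], [0,1,2,1,0,3,2,1]), ([1,1,2,1,0,3,2,1], [2,1,0,3,2,1]), ([2,1,2,1,0,3,2,1],
    [1,0,2,3,2,1]), ([3,1,2,1,0,3,2,1], [1,2,1,0,3,2,1,0]), ([0,0,1,0,2,3,2,1], [1,0,2,3,2,1]),
    ([1,0,1,0,2,3,2,1], [0,1,2,3,2,1]), ([2,0,1,0,2,3,2,1], [0,1,2,1,0,3,2,1]), ([3,0,1,0,2,3,2,1],
    [0,1,0,2,1,3]), ([0,1,0,2,1,3,2,1], [0,1,0,2,1,3,2,1]), ([1,1,0,2,1,3,2,1], [0,2,1,3,2,1]),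
    ([2,1,0,2,1,3,2,1], [1,0,2,1,0,3,2,1]), ([3,1,0,2,1,3,2,1], [1,0,2,1,3,2]), ([0,0,1,2,1,3,2,1],
    [1,2,1,3,2,1]), ([1,0,1,2,1,3,2,1], [0,1,0,2,1,3,2,1]), ([2,0,1,2,1,3,2,1], [0,1,2,3,2,1]),
    ([3,0,1,2,1,3,2,1], [0,1,2,1,3,2]), ([0,0,1,0,2,1,3,2], [1,0,2,1,3,2]), ([1,0,1,0,2,1,3,2],
    [0,1,2,1,3,2]), ([2,0,1,0,2,1,3,2], [0,1,0,2,1,0,3,2]), ([3,0,1,0,2,1,3,2], [0,1,0,2,1,3,2,1]),
    ([0,0,2,1,0,3,2,1,0], [2,1,0,3,2,1,0]), ([1,0,2,1,0,3,2,1,0], [1,0,2,1,0,3,2,1,0]), ([2,0,2,1,0,3,2,1,0],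
    [0,1,0,3,2,1,0]), ([3,0,2,1,0,3,2,1,0], [0,2,1,0,3,2,1]), ([0,1,2,1,0,3,2,1,0], [0,1,2,1,0,3,2,1,0]),
    ([1,1,2,1,0,3,2,1,0], [2,1,0,3,2,1,0]), ([2,1,2,1,0,3,2,1,0], [1,0,2,3,2,1,0]), ([3,1,2,1,0,3,2,1,0],
    [1,2,1,0,3,2,1]), ([0,0,1,0,2,3,2,1,0], [1,0,2,3,2,1,0]), ([1,0,1,0,2,3,2,1,0], [0,1,2,3,2,1,0]),
    ([2,0,1,0,2,3,2,1,0], [0,1,2,1,0,3,2,1,0]), ([3,0,1,0,2,3,2,1,0], [0,1,0,2,1,0,3]), ([0,1,0,2,1,3,2,1,0],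
    [0,1,0,2,1,3,2,1,0]), ([1,1,0,2,1,3,2,1,0], [0,2,1,3,2,1,0]), ([2,1,0,2,1,3,2,1,0], [1,0,2,1,0,3,2,1,0]),
    ([3,1,0,2,1,3,2,1,0], [1,0,2,1,0,3,2]), ([0,0,1,2,1,3,2,1,0], [1,2,1,3,2,1,0]), ([1,0,1,2,1,3,2,1,0],
    [0,1,0,2,1,3,2,1,0]), ([2,0,1,2,1,3,2,1,0], [0,1,2,3,2,1,0]), ([3,0,1,2,1,3,2,1,0], [0,1,2,1,0,3,2]),
    ([0,0,1,0,2,1,0,3,2], [1,0,2,1,0,3,2]), ([1,0,1,0,2,1,0,3,2], [0,1,2,1,0,3,2]), ([2,0,1,0,2,1,0,3,2],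
    [0,1,0,2,1,3,2]), ([3,0,1,0,2,1,0,3,2], [0,1,0,2,1,3,2,1,0]), ([0,1,0,2,1,0,3,2,1], [0,1,0,2,1,0,3,2,1]),
    ([1,1,0,2,1,0,3,2,1], [0,2,1,0,3,2,1]), ([2,1,0,2,1,0,3,2,1], [1,0,2,1,3,2,1]), ([3,1,0,2,1,0,3,2,1],
    [1,0,2,1,0,3,2,1,0]), ([0,0,1,2,1,0,3,2,1], [1,2,1,0,3,2,1]), ([1,0,1,2,1,0,3,2,1], [0,1,0,2,1,0,3,2,1]),
    ([2,0,1,2,1,0,3,2,1], [0,1,0,2,3,2,1]), ([3,0,1,2,1,0,3,2,1], [0,1,2,1,0,3,2,1,0]), ([0,0,1,0,2,1,3,2,1],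
    [1,0,2,1,3,2,1]), ([1,0,1,0,2,1,3,2,1], [0,1,2,1,3,2,1]), ([2,0,1,0,2,1,3,2,1], [0,1,0,2,1,0,3,2,1]),
    ([3,0,1,0,2,1,3,2,1], [0,1,0,2,1,3,2]), ([0,1,0,2,1,0,3,2,1,0], [0,1,0,2,1,0,3,2,1,0]),
    ([1,1,0,2,1,0,3,2,1,0], [0,2,1,0,3,2,1,0]), ([2,1,0,2,1,0,3,2,1,0], [1,0,2,1,3,2,1,0]),
    ([3,1,0,2,1,0,3,2,1,0], [1,0,2,1,0,3,2,1]), ([0,0,1,2,1,0,3,2,1,0], [1,2,1,0,3,2,1,0]),
    ([1,0,1,2,1,0,3,2,1,0], [0,1,0,2,1,0,3,2,1,0]), ([2,0,1,2,1,0,3,2,1,0], [0,1,0,2,3,2,1,0]),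
    ([3,0,1,2,1,0,3,2,1,0], [0,1,2,1,0,3,2,1]), ([0,0,1,0,2,1,3,2,1,0], [1,0,2,1,3,2,1,0]),
    ([1,0,1,0,2,1,3,2,1,0], [0,1,2,1,3,2,1,0]), ([2,0,1,0,2,1,3,2,1,0], [0,1,0,2,1,0,3,2,1,0]),
    ([3,0,1,0,2,1,3,2,1,0], [0,1,0,2,1,0,3,2]), ([0,0,1,0,2,1,0,3,2,1], [1,0,2,1,0,3,2,1]),
    ([1,0,1,0,2,1,0,3,2,1], [0,1,2,1,0,3,2,1]), ([2,0,1,0,2,1,0,3,2,1], [0,1,0,2,1,3,2,1]),
    ([3,0,1,0,2,1,0,3,2,1], [0,1,0,2,1,0,3,2,1,0]), ([0,0,1,0,2,1,0,3,2,1,0], [1,0,2,1,0,3,2,1,0]),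
    ([1,0,1,0,2,1,0,3,2,1,0], [0,1,2,1,0,3,2,1,0]), ([2,0,1,0,2,1,0,3,2,1,0], [0,1,0,2,1,3,2,1,0]),
    ([3,0,1,0,2,1,0,3,2,1,0], [0,1,0,2,1,0,3,2,1])]

theorem tabS5_ok : tableOK 4 tabS5_W tabS5_B = true := by decide +kernel

theorem tabS5_len : tabS5_W.length = 120 := by decide +kernel

/-- The table of `S₅`. -/
theorem tabS5 {G : Type*} [Monoid G] {a b c d : G}
    (h0 : a * a = 1)
    (h1 : b * b = 1)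
    (h2 : c * c = 1)
    (h3 : d * d = 1)
    (h4 : a * b * a = b * a * b)
    (h5 : b * c * b = c * b * c)
    (h6 : c * d * c = d * c * d)
    (h7 : a * c = c * a)
    (h8 : a * d = d * a)
    (h9 : b * d = d * b) :
    ∀ e ∈ tabS5_B, ev (gl [a, b, c, d]) e.1 = ev (gl [a, b, c, d]) e.2 :=
  kb_sound (gl [a, b, c, d]) (T := tabS5_T) (P := tabS5_P) (Q := tabS5_Q)
    (A := [([0,0], []), ([1,1], []), ([2,2], []), ([3,3], []), ([0,1,0], [1,0,1]), ([1,2,1], [2,1,2]), ([2,3,2], [3,2,3]), ([0,2], [2,0]), ([0,3], [3,0]), ([1,3], [3,1])])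
    (by decide +kernel) (by
      simp only [List.forall_mem_cons, List.not_mem_nil, false_imp_iff, implies_true, and_true, ev_nil, ev_cons,
      gl_zero, gl_succ, mul_one, ← mul_assoc]
      exact ⟨h0, h1, h2, h3, h4, h5, h6, h7, h8, h9⟩)

variable {G : Type*} [Group G]

theorem hom_S5 {a b c d : G} (ha : a * a = 1) (hb : b * b = 1) (hc : c * c = 1) (hd : d * d = 1)
    (hab : Br a b) (hbc : Br b c) (hcd : Br c d) (hac : Commute a c) (had : Commute a d) (hbd : Commute b d) :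
    ∃ φ : Perm (Fin 5) →* G, φ (swap 0 1) = a ∧ φ (swap 1 2) = b ∧ φ (swap 2 3) = c ∧ φ (swap 3 4) = d := by
  obtain ⟨φ, hφ⟩ := exists_hom_of_table tabS5_ok (tabS5 ha hb hc hd hab hbc hcd hac had hbd)
    (tabS5 (G := Perm (Fin 5)) (a := swap 0 1) (b := swap 1 2) (c := swap 2 3) (d := swap 3 4) (by decide)
      (by decide) (by decide) (by decide) (by decide) (by decide) (by decide) (by decide) (by decide) (by decide))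
    (by
      rw [eq_top_iff, ← Perm.mclosure_swap_castSucc_succ 4]
      apply Submonoid.closure_mono
      rintro _ ⟨i, rfl⟩
      fin_cases i
      · exact ⟨0, by norm_num, rfl⟩
      · exact ⟨1, by norm_num, rfl⟩
      · exact ⟨2, by norm_num, rfl⟩
      · exact ⟨3, by norm_num, rfl⟩)
    (by rw [tabS5_len, Nat.card_perm]; simp [Nat.factorial])
  exact ⟨φ, hφ 0 (by norm_num), hφ 1 (by norm_num), hφ 2 (by norm_num), hφ 3 (by norm_num)⟩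

theorem hom_S5_injective {φ : Perm (Fin 5) →* G} (h : φ (swap 0 1) ≠ φ (swap 1 2)) : Function.Injective φ := by
  rw [← MonoidHom.ker_eq_bot_iff]
  by_contra k
  have := Perm.alternatingGroup_le_of_normal (N := φ.ker) (by simp) ((nontrivial_iff_ne_bot _).2 k)
  have q : swap 0 1 * swap 1 2 ∈ φ.ker := this (by rw [Perm.mem_alternatingGroup]; decide)
  rw [MonoidHom.mem_ker, map_mul] at q
  exact h (by rw [eq_inv_of_mul_eq_one_left q, ← map_inv, swap_inv])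

theorem range_le_of_swaps {n : ℕ} {φ : Perm (Fin (n + 1)) →* G} {H : Subgroup G}
    (h : ∀ i : Fin n, φ (swap i.castSucc i.succ) ∈ H) : φ.range ≤ H := by
  rintro _ ⟨σ, rfl⟩
  have : σ ∈ Submonoid.closure _ := Perm.mclosure_swap_castSucc_succ n ▸ Submonoid.mem_top σ
  refine Submonoid.closure_induction (fun x hx => ?_) (by simp) (fun x y _ _ a b => ?_) this
  · obtain ⟨i, rfl⟩ := hx; exact h i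
  · rw [map_mul]; exact mul_mem a b

end Cfsg.Agent.FI
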